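import Cfsg.Agent.Twisted.Groups.D4Inst
import Cfsg.Agent.KnownSimple.Multiplier.TwistedLevels

/-!
The levels, coordinates and weights of the unipotent subgroup of `³D₄(q)` (helper53).
-/

set_option autoImplicit false
set_option linter.unusedSectionVars false

namespace Cfsg.Agent.Twisted.TypeD4

open ChevGroup ChevIsogeny Cfsg.Lie
open scoped commutatorElement

/-- the terms of the central series -/
def lev (i : ℕ) : List (Fin MT.tab.n) :=
  ([[], [23], [22, 23], [17, 20, 21, 22, 23], [15, 16, 17, 19, 20, 21, 22, 23],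
    [14, 15, 16, 17, 19, 20, 21, 22, 23], [12, 13, 14, 15, 16, 17, 18, 19, 20, 21, 22, 23]] :
      List (List (Fin 24))).getD i []

/-- the factors -/
def fac (i : Fin 6) : List (Fin MT.tab.n) :=
  ([[23], [22], [17, 20, 21], [15, 16, 19], [14], [12, 13, 18]] : List (List (Fin 24))).getD i.val []

theorem lev_ok : ∀ i : Fin 6, levelB MT PP (lev (i.val + 1)) (lev i.val) = true := by decide +kernel

theorem fac_eq : ∀ i : Fin 6, topOf (lev (i.val + 1)) (lev i.val) = fac i := by decide +kernel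

theorem fac_comm : ∀ i : Fin 6, commListB PP fd (fac i) = true := by decide +kernel

theorem rho_lev : ∀ i : Fin 7, ∀ r ∈ lev i.val, fd.O.rho r ∈ lev i.val := by decide +kernel

theorem fac_pos : ∀ i : Fin 6, ∀ r ∈ fac i, r ∈ MT.posList := by decide +kernel

/-- the representative of a factor -/
def rep (i : Fin 6) : Fin MT.tab.n := ([23, 22, 21, 19, 14, 18] : List (Fin 24)).getD i.val 0

theorem rep_mem : ∀ i, rep i ∈ fac i := by decide +kernel

/-- whether the factor is parametrised by the small field -/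
def small (i : Fin 6) : Prop := i.val = 0 ∨ i.val = 1 ∨ i.val = 4

theorem mem_three {α : Type*} {x a b c : α} (h : x ∈ [a, b, c]) : x = a ∨ x = b ∨ x = c := by
  simpa using h

variable {F : Type*} [Field F]

/-- the coordinates of a fixed element of a factor -/
def co (q : ℕ) (t : F) (r : Fin MT.tab.n) : F :=
  if r = 13 then t ^ q else if r = 12 then t ^ (q ^ 2) else if r = 16 then -t ^ q
  else if r = 15 then -t ^ (q ^ 2) else if r = 17 then -t ^ q else if r = 20 then t ^ (q ^ 2) else t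

theorem co_rep (q : ℕ) (t : F) (i : Fin 6) : co q t (rep i) = t := by
  match i with
  | 0 => rfl
  | 1 => rfl
  | 2 => rfl
  | 3 => rfl
  | 4 => rfl
  | 5 => rfl

theorem rho_table : ∀ r ∈ MT.posList,
    (PP.ef r.val, (fd.O.rho r).val) ∈ ([(1, 18), (1, 12), (1, 14), (-1, 19), (1, 15), (-1, 20),
      (1, 13), (-1, 16), (1, 21), (-1, 17), (1, 22), (1, 23)] : List (ℤ × ℕ)) := by decide +kernel

variable [Fintype F] {q : ℕ}

section

variable (hq : IsPrimePow q) (hK : Fintype.card F = q ^ 3)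
include hq hK

theorem qpow_neg (a : F) : (-a) ^ q = -a ^ q := by
  refine eq_neg_of_add_eq_zero_left ?_
  rw [← (qpow_hom hq hK).1, neg_add_cancel, zero_pow hq.pos.ne']

theorem per3 (t : F) : (t ^ (q ^ 2)) ^ q = t := by
  rw [← pow_mul, ← pow_succ]
  exact (qpow_hom hq hK).2.2 t

theorem neg_qpow_qpow (a : F) : (-a) ^ (q ^ 2) = -a ^ (q ^ 2) := by
  rw [pow_two, pow_mul, pow_mul, qpow_neg hq hK, qpow_neg hq hK]

theorem co_add (t u : F) (r : Fin MT.tab.n) : co q (t + u) r = co q t r + co q u r := by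
  obtain ⟨hadd, -, -⟩ := qpow_hom hq hK
  have h2 : ∀ a b : F, (a + b) ^ (q ^ 2) = a ^ (q ^ 2) + b ^ (q ^ 2) := fun a b => by
    rw [pow_two, pow_mul, pow_mul, pow_mul, hadd, hadd]
  unfold co
  split_ifs <;> simp only [hadd, h2, neg_add]

theorem co_zero (r : Fin MT.tab.n) : co q (0 : F) r = 0 := by
  have := co_add hq hK (0 : F) 0 r
  rw [add_zero] at this
  exact left_eq_add.1 this

end

variable {K : Rels chevD4 F} (Z : Frame (T := MT) K PP q fd)
  (hq : IsPrimePow q) (hK : Fintype.card F = q ^ 3)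

set_option quotPrecheck false in
local notation "G₁" => genG MT K (d4Words F q)

omit [Fintype F] in
theorem lam_q (r : Fin MT.tab.n) : IsoHyp.lam PP q r.val = q := by
  have h : ∀ r : Fin MT.tab.n, ChevIsogeny.IsoData.lf PP r.val = 1 := by decide +kernel
  show ChevIsogeny.IsoData.lf PP r.val * q = q
  rw [h, one_mul]

include hq hK

/-- the parameters in a factor that are allowed -/
noncomputable def Vf (i : Fin 6) : AddSubgroup F :=
  open Classical in
  if small i then
    { carrier := {t | t ^ q = t}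
      zero_mem' := zero_pow hq.pos.ne'
      add_mem' := fun {a b} ha hb => by
        show (a + b) ^ q = a + b
        rw [(qpow_hom hq hK).1, show a ^ q = a from ha, show b ^ q = b from hb]
      neg_mem' := fun {a} ha => by
        show (-a) ^ q = -a
        rw [qpow_neg hq hK, show a ^ q = a from ha] }
  else ⊤

theorem mem_Vf_small {i : Fin 6} (hi : small i) {t : F} : t ∈ Vf hq hK i ↔ t ^ q = t := by
  unfold Vf
  rw [if_pos hi]
  rfl

theorem mem_Vf_big {i : Fin 6} (hi : ¬ small i) (t : F) : t ∈ Vf hq hK i := by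
  unfold Vf
  rw [if_neg hi]
  trivial

include Z

theorem co_fix (i : Fin 6) {t : F} (ht : t ∈ Vf hq hK i) :
    ∀ r ∈ fac i, co q t (fd.O.rho r) = (PP.ef r.val : F) * co q t r ^ IsoHyp.lam PP q r.val := by
  intro r hr
  rw [lam_q]
  have e1 : ∀ (a : ℤ) (s : Fin MT.tab.n), PP.ef r.val = a → fd.O.rho r = s →
      co q t s = (a : F) * co q t r ^ q →
      co q t (fd.O.rho r) = (PP.ef r.val : F) * co q t r ^ q := fun a s h1 h2 h3 => by rw [h1, h2, h3]
  have p := per3 hq hK t
  have sq : (t ^ q) ^ q = t ^ (q ^ 2) := by rw [← pow_mul, pow_two]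
  have n := qpow_neg hq hK
  match i with
  | 0 =>
    have hs := (mem_Vf_small hq hK (Or.inl rfl)).1 ht
    obtain rfl : r = 23 := List.mem_singleton.1 hr
    exact e1 1 23 rfl rfl (by simp [co, hs])
  | 1 =>
    have hs := (mem_Vf_small hq hK (Or.inr (Or.inl rfl))).1 ht
    obtain rfl : r = 22 := List.mem_singleton.1 hr
    exact e1 1 22 rfl rfl (by simp [co, hs])
  | 2 =>
    obtain rfl | rfl | rfl : r = 17 ∨ r = 20 ∨ r = 21 := mem_three hr
    · exact e1 (-1) 20 rfl rfl (by simp [co, n, sq])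
    · exact e1 1 21 rfl rfl (by simp [co, p])
    · exact e1 (-1) 17 rfl rfl (by simp [co])
  | 3 =>
    obtain rfl | rfl | rfl : r = 15 ∨ r = 16 ∨ r = 19 := mem_three hr
    · exact e1 (-1) 19 rfl rfl (by simp [co, n, p])
    · exact e1 1 15 rfl rfl (by simp [co, n, sq])
    · exact e1 (-1) 16 rfl rfl (by simp [co])
  | 4 =>
    have hs := (mem_Vf_small hq hK (Or.inr (Or.inr rfl))).1 ht
    obtain rfl : r = 14 := List.mem_singleton.1 hr
    exact e1 1 14 rfl rfl (by simp [co, hs])
  | 5 =>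
    obtain rfl | rfl | rfl : r = 12 ∨ r = 13 ∨ r = 18 := mem_three hr
    · exact e1 1 18 rfl rfl (by simp [co, p])
    · exact e1 1 12 rfl rfl (by simp [co, sq])
    · exact e1 1 13 rfl rfl (by simp [co])

theorem fac_mem (i : Fin 6) {t : F} (ht : t ∈ Vf hq hK i) :
    prodX MT K (fac i) (co q t) ∈ G₁ := by
  have hfix := Z.prodX_fixed (fac_comm i) (co q t) (co_fix Z hq hK i ht)
  have hU : prodX MT K (fac i) (co q t) ∈ (MT.rel K).U :=
    Subgroup.list_prod_mem _ fun y hy => by
      obtain ⟨r, hr, rfl⟩ := List.mem_map.1 hy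
      exact Subgroup.subset_closure ⟨r, _, mem_pl.1 (fac_pos i r hr), rfl⟩
  exact (Subgroup.mem_inf.1 ((gens Z hq hK).data.mem_U1_of_fixed (MT.shapeR K)
    ((gens Z hq hK).longest long_ok) hU hfix)).1

/-- the parametrisation of a factor inside the group -/
noncomputable def eF (i : Fin 6) (t : F) : ↥G₁ :=
  open Classical in
  if h : t ∈ Vf hq hK i then ⟨prodX MT K (fac i) (co q t), fac_mem Z hq hK i h⟩ else 1

theorem eF_coe (i : Fin 6) {t : F} (ht : t ∈ Vf hq hK i) :
    (eF Z hq hK i t : ↥(chevD4.group F)) = prodX MT K (fac i) (co q t) := by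
  rw [eF, dif_pos ht]

/-- a term of the series inside the group -/
def FlF (i : ℕ) : Subgroup ↥G₁ := (Sg (MT.rel K) (· ∈ lev i)).subgroupOf G₁

theorem rep_eq (i : Fin 6) {r : Fin MT.tab.n} (v : Fin MT.tab.n → F)
    (hv : ∀ r ∈ fac i, v (fd.O.rho r) = (PP.ef r.val : F) * v r ^ IsoHyp.lam PP q r.val)
    (hr : r ∈ fac i) : v r = co q (v (rep i)) r ∧ (small i → v (rep i) ^ q = v (rep i)) := by
  have n := qpow_neg hq hK
  have n2 := neg_qpow_qpow hq hK
  have hvr : ∀ (r s : Fin MT.tab.n) (a : ℤ), r ∈ fac i → PP.ef r.val = a → fd.O.rho r = s →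
      v s = (a : F) * v r ^ q := fun r s a h h1 h2 => by
    rw [← h2, hv r h, lam_q, h1]
  match i with
  | 0 =>
    obtain rfl : r = 23 := List.mem_singleton.1 hr
    exact ⟨rfl, fun _ => by show v 23 ^ q = v 23; simpa using (hvr 23 23 1 hr rfl rfl).symm⟩
  | 1 =>
    obtain rfl : r = 22 := List.mem_singleton.1 hr
    exact ⟨rfl, fun _ => by show v 22 ^ q = v 22; simpa using (hvr 22 22 1 hr rfl rfl).symm⟩
  | 4 =>
    obtain rfl : r = 14 := List.mem_singleton.1 hr
    exact ⟨rfl, fun _ => by show v 14 ^ q = v 14; simpa using (hvr 14 14 1 hr rfl rfl).symm⟩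
  | 2 =>
    have a := hvr 21 17 (-1) (by decide +kernel) rfl rfl
    have b := hvr 17 20 (-1) (by decide +kernel) rfl rfl
    refine ⟨?_, fun h => absurd h (by simp [small])⟩
    obtain rfl | rfl | rfl : r = 17 ∨ r = 20 ∨ r = 21 := mem_three hr
    · rw [a]; simp [co, rep]; try rfl
    · rw [b, a]; simp [co, rep, n, ← pow_mul, pow_two]; try rfl
    · rfl
  | 3 =>
    have a := hvr 19 16 (-1) (by decide +kernel) rfl rfl
    have b := hvr 16 15 1 (by decide +kernel) rfl rfl
    refine ⟨?_, fun h => absurd h (by simp [small])⟩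
    obtain rfl | rfl | rfl : r = 15 ∨ r = 16 ∨ r = 19 := mem_three hr
    · rw [b, a]; simp [co, rep, n, ← pow_mul, pow_two]; try rfl
    · rw [a]; simp [co, rep]; try rfl
    · rfl
  | 5 =>
    have a := hvr 18 13 1 (by decide +kernel) rfl rfl
    have b := hvr 13 12 1 (by decide +kernel) rfl rfl
    refine ⟨?_, fun h => absurd h (by simp [small])⟩
    obtain rfl | rfl | rfl : r = 12 ∨ r = 13 ∨ r = 18 := mem_three hr
    · rw [b, a]; simp [co, rep, ← pow_mul, pow_two]; try rfl
    · rw [a]; simp [co, rep]; try rfl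
    · rfl

theorem sigma_lev (i : Fin 7) {g : ↥(chevD4.group F)} (hg : g ∈ Sg (MT.rel K) (· ∈ lev i.val)) :
    Z.σ g ∈ Sg (MT.rel K) (· ∈ lev i.val) := by
  induction hg using Subgroup.closure_induction with
  | mem y hy =>
    obtain ⟨r, t, hr, rfl⟩ := hy
    rw [Z.σ_x]
    exact x_mem_Sg _ (rho_lev i r hr) _
  | one => simp
  | mul a b _ _ ha hb => rw [map_mul]; exact mul_mem ha hb
  | inv a _ ha => rw [map_inv]; exact inv_mem ha

theorem FlF_dec (i : Fin 6) {g : ↥G₁} (hg : g ∈ FlF (i.val + 1)) :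
    ∃ t ∈ Vf hq hK i, (eF Z hq hK i t)⁻¹ * g ∈ FlF i.val := by
  classical
  have hl := lev_ok i
  have hl' := hl
  simp only [levelB, Bool.and_eq_true, decide_eq_true_eq, List.all_eq_true] at hl'
  have hgL : (g : ↥(chevD4.group F)) ∈ Sg (MT.rel K) (· ∈ lev (i.val + 1)) := hg
  obtain ⟨v, hv⟩ := Z.exists_prodX_closed hl'.1.1.2 (hl'.1.1.1.1.nodup Z.posList_nodup) hgL
  have h1 := Z.level_split hl (M := lev (i.val + 1)) (List.Subset.refl _) v
  rw [fac_eq i, ← hv] at h1
  have hρ : ∀ r ∈ fac i, fd.O.rho r ∈ fac i := by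
    have := fac_comm i
    simp only [commListB, Bool.and_eq_true, decide_eq_true_eq, List.all_eq_true] at this
    exact this.1.1.2
  let inv : Fin MT.tab.n → Fin MT.tab.n := Function.surjInv Z.rho_surj
  have hinj : Function.Injective fd.O.rho := Finite.injective_iff_surjective.2 Z.rho_surj
  let w : Fin MT.tab.n → F := fun u => (PP.ef (inv u).val : F) * v (inv u) ^ IsoHyp.lam PP q (inv u).val
  have hw : ∀ u ∈ fac i, w (fd.O.rho u) = (PP.ef u.val : F) * v u ^ IsoHyp.lam PP q u.val :=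
    fun u _ => by simp only [w, inv, hinj (Function.surjInv_eq Z.rho_surj (fd.O.rho u))]
  have hσ : Z.σ (prodX MT K (fac i) v) = prodX MT K (fac i) w := Z.σ_prodX (fac_comm i) v w hw
  have hgfix : Z.σ (g : ↥(chevD4.group F)) = g := fixed_gen Z hq hK _ g.2
  have h2 := sigma_lev Z hq hK ⟨i.val, by omega⟩ h1
  rw [map_mul, map_inv, hσ, hgfix] at h2
  have h3 := mul_mem h1 (inv_mem h2)
  rw [_root_.mul_inv_rev, inv_inv, mul_assoc, mul_inv_cancel_left] at h3
  have hcm : ∀ r ∈ fac i, ∀ s ∈ fac i, ∀ a b : F,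
      Commute ((MT.rel K).x r a) ((MT.rel K).x s b) := fun r hr s hs => Z.commList_commute (fac_comm i) hr hs
  have h4 : prodX MT K (fac i) (w - v) ∈ Sg (MT.rel K) (· ∈ lev i.val) := by
    have e : prodX MT K (fac i) v * prodX MT K (fac i) (w - v) = prodX MT K (fac i) w := by
      rw [Z.prodX_mul hcm, add_sub_cancel]
    rwa [← e, inv_mul_cancel_left] at h3
  have h5 := Z.level_lead hl (v := w - v) (by rwa [fac_eq i])
  rw [fac_eq i] at h5
  have hvfix : ∀ r ∈ fac i, v (fd.O.rho r) = (PP.ef r.val : F) * v r ^ IsoHyp.lam PP q r.val :=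
    fun r hr => by rw [← hw r hr]; exact (sub_eq_zero.1 (h5 _ (hρ r hr))).symm
  have hrep := fun r hr => rep_eq Z hq hK i v hvfix (r := r) hr
  have htV : v (rep i) ∈ Vf hq hK i := by
    by_cases hs : small i
    · exact (mem_Vf_small hq hK hs).2 ((hrep _ (rep_mem i)).2 hs)
    · exact mem_Vf_big hq hK hs _
  refine ⟨v (rep i), htV, ?_⟩
  show (eF Z hq hK i (v (rep i)) : ↥(chevD4.group F))⁻¹ * g ∈ Sg (MT.rel K) (· ∈ lev i.val)
  rwa [eF_coe Z hq hK i htV, Z.prodX_congr (w := v) fun r hr => ((hrep r hr).1).symm]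

theorem FlF_inj (i : Fin 6) {t : F} (ht : t ∈ Vf hq hK i) (h : eF Z hq hK i t ∈ FlF i.val) :
    t = 0 := by
  have h' : (eF Z hq hK i t : ↥(chevD4.group F)) ∈ Sg (MT.rel K) (· ∈ lev i.val) := h
  rw [eF_coe Z hq hK i ht, ← fac_eq i] at h'
  have h2 := Z.level_lead (lev_ok i) h' (rep i) (by rw [fac_eq i]; exact rep_mem i)
  rwa [co_rep] at h2

theorem eF_add (i : Fin 6) {t u : F} (ht : t ∈ Vf hq hK i) (hu : u ∈ Vf hq hK i) :
    eF Z hq hK i (t + u) = eF Z hq hK i t * eF Z hq hK i u := by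
  refine Subtype.ext ?_
  rw [Subgroup.coe_mul, eF_coe Z hq hK i (add_mem ht hu), eF_coe Z hq hK i ht, eF_coe Z hq hK i hu,
    Z.prodX_mul fun r hr s hs => Z.commList_commute (fac_comm i) hr hs]
  exact Z.prodX_congr fun r _ => co_add hq hK t u r

end Cfsg.Agent.Twisted.TypeD4
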