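import Cfsg.Agent.KnownSimple.Multiplier.D4.Local
import Cfsg.Agent.KnownSimple.Multiplier.RankSetup
import Cfsg.Agent.Lib.ChevCore.GoodAll
import Cfsg.Agent.Lib.ChevCore.RankOneHom
import Cfsg.Agent.Twisted.Groups.D4

/-!
The rank one subgroups of `³D₄(q)` as images of `SL_2(q)` and `SL_2(q³)`, and the lifting setup (helper53).
-/

set_option autoImplicit false
set_option linter.unusedSectionVars false

namespace Cfsg.Agent.Twisted.TypeD4

open ChevGroup ChevIsogeny Cfsg.Lie
open Cfsg.Agent.ChevCore (slU slL pn ph PairRel exists_sl_hom sl_generated)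

universe w

variable {F : Type w} [Field F] [Fintype F] {q : ℕ} {K : Rels chevD4 F}
  (Z : Frame (T := MT) K PP q fd)
  (hq : IsPrimePow q) (hK : Fintype.card F = q ^ 3)

set_option quotPrecheck false in
local notation "G₁" => genG MT K (d4Words F q)

theorem root_pairRel (r : Fin MT.tab.n) :
    PairRel (fun t : F => (MT.rel K).x r t) (fun t : F => (MT.rel K).x ((MT.S).neg r) t) := by
  have hG : ChevCore.Good chevD4 := ChevCore.good_of_mem (by simp)
  have P := hG.pairRel_root (F := F) (MT.lt r)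
  have e : ∀ (s : Fin MT.tab.n) (t : F), (((MT.rel K).x s t : ↥(chevD4.group F)) : GL chevD4.Idx F) =
      ChevCore.xg chevD4 F s.val t := fun s t => Units.ext (by rw [hG.val_xg]; rfl)
  have en : ((MT.S).neg r).val = chevD4.neg r.val := MT.neg_eq r
  refine ⟨fun a b => Subtype.ext ?_, fun a b => Subtype.ext ?_, fun a b ha hb => Subtype.ext ?_,
    fun a t ha => Subtype.ext ?_, fun a t ha => Subtype.ext ?_, fun t => Subtype.ext ?_⟩
  · simpa [e, en] using P.x_add a b
  · simpa [e, en] using P.y_add a b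
  · simpa [ph, pn, e, en] using P.h_mul a b ha hb
  · simpa [ph, pn, e, en] using P.h_x a t ha
  · simpa [ph, pn, e, en] using P.h_y a t ha
  · simpa [ph, pn, e, en] using P.n_x t

/-- the homomorphism of a root -/
noncomputable def rootHom (r : Fin MT.tab.n) :
    Matrix.SpecialLinearGroup (Fin 2) F →* ↥(chevD4.group F) :=
  (exists_sl_hom (root_pairRel (K := K) r)).choose

theorem rootHom_U (r : Fin MT.tab.n) (t : F) : rootHom (K := K) r (slU t) = (MT.rel K).x r t :=
  (exists_sl_hom (root_pairRel (K := K) r)).choose_spec.1 t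

theorem rootHom_L (r : Fin MT.tab.n) (t : F) :
    rootHom (K := K) r (slL t) = (MT.rel K).x ((MT.S).neg r) t :=
  (exists_sl_hom (root_pairRel (K := K) r)).choose_spec.2.1 t

theorem rootHom_pn (r : Fin MT.tab.n) (a : F) :
    rootHom (K := K) r (pn slU slL a) = (MT.rel K).nr r a := by
  rw [pn, map_mul, map_mul, rootHom_U, rootHom_L]; rfl

theorem rootHom_ph (r : Fin MT.tab.n) (a : F) :
    rootHom (K := K) r (ph slU slL a) = (MT.rel K).hr r a := by
  rw [ph, map_mul, rootHom_pn, rootHom_pn]; rfl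

theorem map_slU {E : Type*} [Field E] (f : E →+* F) (t : E) :
    Matrix.SpecialLinearGroup.map f (slU t) = slU (f t) ∧
      Matrix.SpecialLinearGroup.map f (slL t) = slL (f t) := by
  constructor <;> ext i j <;> fin_cases i <;> fin_cases j <;>
    simp [ChevCore.coe_slU, ChevCore.coe_slL, Matrix.SpecialLinearGroup.map_apply_coe]

theorem map_pn {E : Type*} [Field E] (f : E →+* F) (a : E) :
    Matrix.SpecialLinearGroup.map f (pn slU slL a) = pn slU slL (f a) ∧
      Matrix.SpecialLinearGroup.map f (ph slU slL a) = ph slU slL (f a) := by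
  have h : ∀ a : E, Matrix.SpecialLinearGroup.map f (pn slU slL a) = pn slU slL (f a) := fun a => by
    rw [pn, map_mul, map_mul, (map_slU f _).1, (map_slU f _).2, map_neg, map_inv₀]; rfl
  exact ⟨h a, by rw [ph, map_mul, h, h, map_neg, map_one]; rfl⟩

include hq hK

/-- the field with `q` elements -/
def Fq : Subfield F where
  carrier := {t | t ^ q = t}
  mul_mem' {a b} ha hb := by show (a * b) ^ q = a * b; rw [mul_pow, ha, hb]
  one_mem' := one_pow q
  add_mem' {a b} ha hb := by
    show (a + b) ^ q = a + b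
    rw [(qpow_hom hq hK).1, show a ^ q = a from ha, show b ^ q = b from hb]
  zero_mem' := zero_pow hq.pos.ne'
  neg_mem' {a} ha := by show (-a) ^ q = -a; rw [qpow_neg hq hK, show a ^ q = a from ha]
  inv_mem' a ha := by show (a⁻¹) ^ q = a⁻¹; rw [inv_pow, show a ^ q = a from ha]

/-- the Frobenius powers -/
def frob : F →+* F where
  toFun a := a ^ q
  map_one' := one_pow q
  map_mul' a b := mul_pow a b q
  map_zero' := zero_pow hq.pos.ne'
  map_add' := (qpow_hom hq hK).1

include Z

theorem rootHom_commute {r s : Fin MT.tab.n} (hrs : commListB PP fd [18, 13, 12] = true)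
    (h1 : PP.commuteB chevD4 r.val s.val = true)
    (h2 : PP.commuteB chevD4 r.val ((MT.S).neg s).val = true)
    (h3 : PP.commuteB chevD4 ((MT.S).neg r).val s.val = true)
    (h4 : PP.commuteB chevD4 ((MT.S).neg r).val ((MT.S).neg s).val = true)
    (g g' : Matrix.SpecialLinearGroup (Fin 2) F) :
    Commute (rootHom (K := K) r g) (rootHom (K := K) s g') := by
  have gen : ∀ (u : Fin MT.tab.n) (y : Matrix.SpecialLinearGroup (Fin 2) F) (z : ↥(chevD4.group F)),
      (∀ t, Commute ((MT.rel K).x u t) z) → (∀ t, Commute ((MT.rel K).x ((MT.S).neg u) t) z) →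
      Commute (rootHom (K := K) u y) z := by
    intro u y z hz hz'
    induction sl_generated y using Subgroup.closure_induction with
    | mem y hy =>
      rcases hy with ⟨t, rfl⟩ | ⟨t, rfl⟩
      · rw [rootHom_U]; exact hz t
      · rw [rootHom_L]; exact hz' t
    | one => rw [map_one]; exact Commute.one_left z
    | mul a b _ _ ha hb => rw [map_mul]; exact ha.mul_left hb
    | inv a _ ha => rw [map_inv]; exact ha.inv_left
  refine gen r g _ (fun t => ?_) (fun t => ?_) <;> refine (gen s g' _ (fun u => ?_) (fun u => ?_)).symm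
  · exact (Z.commute_x h1 t u).symm
  · exact (Z.commute_x h2 t u).symm
  · exact (Z.commute_x h3 t u).symm
  · exact (Z.commute_x h4 t u).symm

theorem tri_commute : ∀ r ∈ ([18, 13, 12] : List (Fin MT.tab.n)), ∀ s ∈ ([18, 13, 12] : List (Fin MT.tab.n)),
    r ≠ s → ∀ g g' : Matrix.SpecialLinearGroup (Fin 2) F,
      Commute (rootHom (K := K) r g) (rootHom (K := K) s g') := by
  intro r hr s hs hne g g'
  have := pair_ok.2
  simp only [pairOrthB, Bool.and_eq_true, decide_eq_true_eq, List.all_eq_true, Bool.or_eq_true] at this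
  obtain ⟨⟨⟨a, b⟩, c⟩, d⟩ := (this.2 r hr s hs).resolve_left hne
  exact rootHom_commute Z hq hK (list_ok Z _ (by decide)) a b c d g g'

/-- `SL_2(q³)` inside `³D₄(q)` -/
noncomputable def levi1 : Matrix.SpecialLinearGroup (Fin 2) F →* ↥(chevD4.group F) :=
  let f := frob hq hK
  MonoidHom.mk'
    (fun g => rootHom (K := K) 18 g * rootHom (K := K) 13 (Matrix.SpecialLinearGroup.map f g) *
      rootHom (K := K) 12 (Matrix.SpecialLinearGroup.map (f.comp f) g))
    (fun g g' => by
      simp only [map_mul]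
      have c1 := fun y y' => tri_commute Z hq hK 18 (by decide) 13 (by decide) (by decide) y y'
      have c2 := fun y y' => tri_commute Z hq hK 18 (by decide) 12 (by decide) (by decide) y y'
      have c3 := fun y y' => tri_commute Z hq hK 13 (by decide) 12 (by decide) (by decide) y y'
      set a := rootHom (K := K) 18 g
      set a' := rootHom (K := K) 18 g'
      set b := rootHom (K := K) 13 (Matrix.SpecialLinearGroup.map f g)
      set b' := rootHom (K := K) 13 (Matrix.SpecialLinearGroup.map f g')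
      set c := rootHom (K := K) 12 (Matrix.SpecialLinearGroup.map (f.comp f) g)
      set c' := rootHom (K := K) 12 (Matrix.SpecialLinearGroup.map (f.comp f) g')
      calc a * a' * (b * b') * (c * c') = a * (a' * b) * b' * c * c' := by group
        _ = a * (b * a') * b' * c * c' := by rw [(c1 g' (Matrix.SpecialLinearGroup.map f g)).eq]
        _ = a * b * (a' * (b' * c)) * c' := by group
        _ = a * b * (a' * (c * b')) * c' := by
          rw [(c3 (Matrix.SpecialLinearGroup.map f g') (Matrix.SpecialLinearGroup.map (f.comp f) g)).eq]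
        _ = a * b * (a' * c) * b' * c' := by group
        _ = a * b * (c * a') * b' * c' := by
          rw [(c2 g' (Matrix.SpecialLinearGroup.map (f.comp f) g)).eq]
        _ = a * b * c * (a' * b' * c') := by group)

theorem levi1_apply (g : Matrix.SpecialLinearGroup (Fin 2) F) : levi1 Z hq hK g =
    rootHom (K := K) 18 g * rootHom (K := K) 13 (Matrix.SpecialLinearGroup.map (frob hq hK) g) *
      rootHom (K := K) 12 (Matrix.SpecialLinearGroup.map ((frob hq hK).comp (frob hq hK)) g) := rfl

/-- `SL_2(q)` inside `³D₄(q)` -/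
noncomputable def levi0 :
    Matrix.SpecialLinearGroup (Fin 2) (Fq hq hK (F := F)) →* ↥(chevD4.group F) :=
  (rootHom (K := K) 14).comp (Matrix.SpecialLinearGroup.map (Fq hq hK (F := F)).subtype)

theorem frob2 (t : F) : ((frob hq hK).comp (frob hq hK)) t = t ^ (q ^ 2) := by
  show (t ^ q) ^ q = _
  rw [← pow_mul, pow_two]

theorem levi0_torus (a : Fˣ) (ha : (a : F) ^ q = a) :
    levi0 (K := K) hq hK (ph slU slL (⟨(a : F), ha⟩ : Fq hq hK (F := F))) = tor MT K (cvec q 1 a) := by
  rw [levi0, MonoidHom.comp_apply, (map_pn _ _).2, rootHom_ph]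
  show (MT.rel K).hr 14 (a : F) = _
  rw [show (14 : Fin MT.tab.n) = (MT.S).simple 1 from Fin.ext rfl, Z.hr_simple_eq_tor]
  congr 1
  funext j
  match j with
  | 0 => rfl
  | 1 => rfl
  | 2 => show (1 : Fˣ) = 1 ^ q; rw [one_pow]
  | 3 => show (1 : Fˣ) = 1 ^ (q ^ 2); rw [one_pow]

theorem levi1_torus (a : Fˣ) :
    levi1 Z hq hK (ph slU slL (a : F)) = tor MT K (cvec q a 1) := by
  rw [levi1_apply, (map_pn _ _).2, (map_pn _ _).2, rootHom_ph, rootHom_ph, rootHom_ph, frob2 Z hq hK]
  show (MT.rel K).hr 18 (a : F) * (MT.rel K).hr 13 ((a : F) ^ q) * (MT.rel K).hr 12 ((a : F) ^ (q ^ 2)) = _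
  rw [Z.tor_eq_prod (L := [1, 0, 2, 3]) (by decide)]
  have h1 : (MT.rel K).hr (14 : Fin MT.tab.n) (1 : F) = 1 := by
    have h := Z.hr_simple_eq_tor 1 (1 : Fˣ)
    rw [Pi.mulSingle_one, Units.val_one, ← Z.torHom_apply, map_one] at h
    exact h
  simp only [List.map_cons, List.map_nil, List.prod_cons, List.prod_nil, mul_one]
  rw [show (MT.S).simple 1 = (14 : Fin MT.tab.n) from Fin.ext rfl,
    show (MT.S).simple 0 = (18 : Fin MT.tab.n) from Fin.ext rfl,
    show (MT.S).simple 2 = (13 : Fin MT.tab.n) from Fin.ext rfl,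
    show (MT.S).simple 3 = (12 : Fin MT.tab.n) from Fin.ext rfl,
    show ((cvec q a 1 1 : Fˣ) : F) = 1 from Units.val_one, h1, one_mul,
    (cvec_val q a 1).1, (cvec_val q a 1).2.2.1, (cvec_val q a 1).2.2.2, mul_assoc]
  simp only [Units.val_pow_eq_pow_val]

theorem cvec_one_inj {a b : Fˣ} (hb : b ^ q = b) (h : tor MT K (cvec q a b) = 1) : a = 1 ∧ b = 1 := by
  have := ker_fixed Z hq hK (sig_cvec Z hq hK a b hb) h
  exact ⟨congrFun this 0, congrFun this 1⟩

theorem isLevi0 : (gens Z hq hK).data.IsLevi 0 (levi0 (K := K) hq hK) where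
  upper_mem t := by
    rw [levi0, MonoidHom.comp_apply, (map_slU _ _).1, rootHom_U]
    exact Subgroup.mem_inf.2 ⟨(gen1_mem Z t.2).1,
      x_mem_Sg (MT.rel K) (T := fun r => r ∈ fd.O.cls 0) (r := 14) (by decide) _⟩
  upper_onto a ha := by
    obtain ⟨t, ht, rfl⟩ := cls0 Z ha.2 ((gens Z hq hK).fixed a ha.1)
    exact ⟨⟨t, ht⟩, by rw [levi0, MonoidHom.comp_apply, (map_slU _ _).1, rootHom_U]; rfl⟩
  upper_inj t h := by
    rw [levi0, MonoidHom.comp_apply, (map_slU _ _).1, rootHom_U] at h
    exact Subtype.ext (MT.x_ne K 14 _ h)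
  lower_mem t := by
    rw [levi0, MonoidHom.comp_apply, (map_slU _ _).2, rootHom_L]
    refine ⟨(gen1_mem Z t.2).2, ?_⟩
    exact x_mem_Sg (MT.rel K) (T := fun r => (MT.S).neg r ∈ fd.O.cls 0) (r := (MT.S).neg 14) (by decide) _
  weyl := by
    rw [levi0, MonoidHom.comp_apply, (map_pn _ _).1, rootHom_pn, map_one]
    show _ = Z.nJ 0
    rw [Z.nJ_eq 0 (by decide +kernel), show fd.orth 0 = [14] from rfl]
    simp
  torus a ha := by
    exact (levi0_torus Z hq hK (Units.mk0 (a : F) (fun e => ha (Subtype.ext e))) a.2).symm ▸ Z.tor_mem_H _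
  torus_inj a ha h := by
    have h : tor MT K (cvec q 1 (Units.mk0 (a : F) (fun e => ha (Subtype.ext e)))) = 1 :=
      (levi0_torus Z hq hK (Units.mk0 (a : F) (fun e => ha (Subtype.ext e))) a.2).symm.trans h
    exact Subtype.ext (congrArg Units.val (cvec_one_inj Z hq hK (Units.ext (by
      rw [Units.val_pow_eq_pow_val]; exact a.2)) h).2)

theorem levi1_U (t : F) : levi1 Z hq hK (slU t) = prodX MT K [18, 13, 12] (tri q t) ∧
    levi1 Z hq hK (slL t) = prodX MT K [5, 10, 11] (tri q t) := by
  rw [levi1_apply, levi1_apply, (map_slU _ _).1, (map_slU _ _).1, (map_slU _ _).2, (map_slU _ _).2,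
    rootHom_U, rootHom_U, rootHom_U, rootHom_L, rootHom_L, rootHom_L, frob2 Z hq hK,
    show (MT.S).neg (18 : Fin MT.tab.n) = 5 from Fin.ext rfl,
    show (MT.S).neg (13 : Fin MT.tab.n) = 10 from Fin.ext rfl,
    show (MT.S).neg (12 : Fin MT.tab.n) = 11 from Fin.ext rfl]
  constructor <;> simp [prodX, tri, frob, mul_assoc]

theorem isLevi1 : (gens Z hq hK).data.IsLevi 1 (levi1 Z hq hK) where
  upper_mem t := by
    rw [(levi1_U Z hq hK t).1, Z.prodX_perm (L := [18, 13, 12]) (L' := [12, 13, 18]) (by decide)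
      (list_ok Z _ (by decide))]
    exact tri_X Z hq hK t
  upper_onto a ha := by
    obtain ⟨t, rfl⟩ := cls1 Z ha.2 ((gens Z hq hK).fixed a ha.1)
    exact ⟨t, (levi1_U Z hq hK t).1⟩
  upper_inj t h := by
    rw [(levi1_U Z hq hK t).1, Z.prodX_perm (L := [18, 13, 12]) (L' := [12, 13, 18]) (by decide)
      (list_ok Z _ (by decide))] at h
    have h0 : prodX MT K [12, 13, 18] (tri q t) = prodX MT K [12, 13, 18] (fun _ => (0 : F)) := by
      rw [h]; simp [prodX, RootRel.x_zero]
    have := Z.prodX_inj (L := [12, 13, 18]) (by decide) h0 18 (by decide)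
    simpa [tri] using this
  lower_mem t := by
    rw [(levi1_U Z hq hK t).2]
    refine ⟨(tri_mem Z t).2, Z.Sg_mem_prodX (fun r hr => ?_) _⟩
    have h : ∀ r ∈ ([5, 10, 11] : List (Fin MT.tab.n)), (MT.S).neg r ∈ fd.O.cls 1 := by decide +kernel
    exact h r hr
  weyl := by
    rw [levi1_apply, (map_pn _ _).1, (map_pn _ _).1, rootHom_pn, rootHom_pn, rootHom_pn, map_one,
      map_one]
    show _ = Z.nJ 1
    rw [Z.nJ_eq 1 (by decide +kernel), show fd.orth 1 = [12, 13, 18] from rfl]
    simp only [List.map_cons, List.map_nil, List.prod_cons, List.prod_nil, mul_one]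
    have c : ∀ r ∈ ([18, 13, 12] : List (Fin MT.tab.n)), ∀ s ∈ ([18, 13, 12] : List (Fin MT.tab.n)),
        r ≠ s → Commute ((MT.rel K).nr r 1) ((MT.rel K).nr s 1) := fun r hr s hs hne => by
      rw [← rootHom_pn r (1 : F), ← rootHom_pn s (1 : F)]
      exact tri_commute Z hq hK r hr s hs hne _ _
    rw [(c 18 (by decide) 13 (by decide) (by decide)).eq, mul_assoc,
      (c 18 (by decide) 12 (by decide) (by decide)).eq, ← mul_assoc,
      (c 13 (by decide) 12 (by decide) (by decide)).eq, mul_assoc]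
  torus a ha := by
    rw [show a = ((Units.mk0 a ha : Fˣ) : F) from rfl, levi1_torus Z hq hK]
    exact Z.tor_mem_H _
  torus_inj a ha h := by
    rw [show a = ((Units.mk0 a ha : Fˣ) : F) from rfl, levi1_torus Z hq hK] at h
    exact congrArg Units.val (cvec_one_inj Z hq hK (one_pow q) h).1

end Cfsg.Agent.Twisted.TypeD4
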