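import Cfsg.Agent.KnownSimple.Multiplier.D4.Weights
import Cfsg.Agent.KnownSimple.Multiplier.Pairing

/-!
The condition at the characteristic for the Schur multiplier of `³D₄(q)`, `q ≥ 3` (helper53).
-/

set_option autoImplicit false
set_option linter.unusedSectionVars false

namespace Cfsg.Agent.Twisted.TypeD4

open ChevGroup ChevIsogeny Cfsg.Lie
open scoped commutatorElement

universe u w

variable {F : Type w} [Field F] [Fintype F] {q : ℕ} {K : Rels chevD4 F}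
  (Z : Frame (T := MT) K PP q fd)
  (hq : IsPrimePow q) (hK : Fintype.card F = q ^ 3)

set_option quotPrecheck false in
local notation "G₁" => genG MT K (d4Words F q)

include Z hq hK

/-- the torus element with given fundamental values -/
noncomputable def hT (s : TPar F q) : ↥G₁ :=
  let p := (Equiv.ofBijective _ (wmap_bij hq hK)).symm s
  ⟨tor MT K (cvec q p.1 p.2.1), torus_mem Z hq hK _ (sig_cvec Z hq hK p.1 p.2.1 p.2.2)⟩

theorem hT_conj (i : Fin 6) (s : TPar F q) {t : F} (ht : t ∈ Vf hq hK i)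
    (ht' : (wgt q i s.1 s.2.1 : F) * t ∈ Vf hq hK i) :
    hT Z hq hK s * eF Z hq hK i t * (hT Z hq hK s)⁻¹ =
      eF Z hq hK i ((wgt q i s.1 s.2.1 : F) * t) := by
  refine Subtype.ext ?_
  set p := (Equiv.ofBijective _ (wmap_bij hq hK)).symm s with hp
  have hs := Equiv.apply_symm_apply (Equiv.ofBijective _ (wmap_bij hq hK)) s
  rw [← hp] at hs
  have h1 : (wmap q p).1 = s.1 := congrArg Prod.fst hs
  have h2 : (wmap q p).2 = s.2.1 := congrArg (fun x : TPar F q => x.2.1) hs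
  rw [Subgroup.coe_mul, Subgroup.coe_mul, Subgroup.coe_inv, eF_coe Z hq hK i ht,
    eF_coe Z hq hK i ht', show (hT Z hq hK s : ↥(chevD4.group F)) = tor MT K (cvec q p.1 p.2.1) from rfl,
    Z.tor_prodX_conj]
  refine Z.prodX_congr fun r hr => ?_
  rw [chi_fac Z i r hr p.1 p.2.1 hq hK p.2.2 t]
  show co q (((wgt q i (wmap q p).1 (wmap q p).2 : Fˣ) : F) * t) r = _
  rw [h1, h2]

omit Z in
theorem wgt_fixed {i : Fin 6} (hi : small i) (s : TPar F q) :
    (wgt q i s.1 s.2.1) ^ q = wgt q i s.1 s.2.1 := by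
  have n := norm_fixed hq hK s.1
  have v : s.2.1 ^ q = s.2.1 := s.2.2
  match i, hi with
  | 0, _ => show (_ * s.2.1 ^ 2) ^ q = _; rw [mul_pow, n, ← pow_mul, mul_comm 2 q, pow_mul, v]; rfl
  | 1, _ => show (_ * s.2.1) ^ q = _; rw [mul_pow, n, v]; rfl
  | 4, _ => exact v
  | 2, h => exact absurd h (by simp [small])
  | 3, h => exact absurd h (by simp [small])
  | 5, h => exact absurd h (by simp [small])

omit Z in
theorem wgt_mul_mem (i : Fin 6) (s : TPar F q) {t : F} (ht : t ∈ Vf hq hK i) :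
    (wgt q i s.1 s.2.1 : F) * t ∈ Vf hq hK i := by
  by_cases hi : small i
  · rw [mem_Vf_small hq hK hi] at ht ⊢
    rw [mul_pow, ht, ← Units.val_pow_eq_pow_val, wgt_fixed hq hK hi]
  · exact mem_Vf_big hq hK hi _

omit Z in
theorem exists_gen : ∃ g : Fˣ, orderOf g = q ^ 3 - 1 := by
  obtain ⟨g, hg⟩ := IsCyclic.exists_ofOrder_eq_natCard (α := Fˣ)
  exact ⟨g, by rw [hg, Nat.card_units, Nat.card_eq_fintype_card, hK]⟩

omit Z in
theorem norm_ne_one (h3 : 3 ≤ q) : ∃ g : Fˣ, g * g ^ q * g ^ (q ^ 2) ≠ 1 ∧ g ≠ 1 := by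
  obtain ⟨g, hg⟩ := exists_gen hq hK
  have h27 : 3 * (1 + q + q ^ 2) ≤ q ^ 3 + 1 + q + q ^ 2 := by nlinarith [Nat.pow_le_pow_left h3 2]
  refine ⟨g, fun e => ?_, fun e => ?_⟩
  · have h1 : g ^ (1 + q + q ^ 2) = 1 := by rw [pow_add, pow_add, pow_one]; exact e
    have := Nat.le_of_dvd (by positivity) (hg ▸ orderOf_dvd_of_pow_eq_one h1)
    omega
  · rw [e, orderOf_one] at hg
    omega

omit Z in
theorem norm_one_elt : ∃ u : Fˣ, u * u ^ q * u ^ (q ^ 2) = 1 ∧ u ≠ 1 ∧ u * u ^ q ≠ 1 := by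
  obtain ⟨g, hg⟩ := exists_gen hq hK
  have h2 := hq.two_le
  have he : (q - 1) * (1 + q + q ^ 2) = q ^ 3 - 1 := by
    zify [show 1 ≤ q by omega, Nat.one_le_pow 3 q (by omega)]; ring
  have hne : g ^ (q - 1) ≠ 1 := fun e => by
    have := Nat.le_of_dvd (by omega) (hg ▸ orderOf_dvd_of_pow_eq_one e)
    have : 4 * q ≤ q ^ 3 := by nlinarith [Nat.pow_le_pow_left h2 2]
    omega
  have h1 : (g ^ (q - 1)) ^ (1 + q + q ^ 2) = 1 := by
    rw [← pow_mul, he, ← hg, pow_orderOf_eq_one]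
  refine ⟨g ^ (q - 1), by rw [← h1, pow_add, pow_add, pow_one], hne, fun e => hne ?_⟩
  rw [pow_add, pow_add, pow_one, e, one_mul] at h1
  have h3 : (g ^ (q - 1)) ^ q = (g ^ (q - 1))⁻¹ := eq_inv_of_mul_eq_one_right e
  rw [pow_two q, pow_mul, h3, inv_pow, h3, inv_inv] at h1
  exact h1

omit Z in
theorem wgt_onto {i : Fin 6} (hi : ¬ small i) (c : Fˣ) :
    ∃ s : TPar F q, wgt q i s.1 s.2.1 = c := by
  have one : (1 : Fˣ) ^ q = 1 := one_pow q
  match i, hi with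
  | 3, _ => exact ⟨⟨c, 1, one⟩, mul_one c⟩
  | 5, _ => exact ⟨⟨c, 1, one⟩, rfl⟩
  | 2, _ =>
    refine ⟨⟨(c ^ q)⁻¹, c * c ^ q * c ^ (q ^ 2), norm_fixed hq hK c⟩, ?_⟩
    show (c ^ q)⁻¹ * ((c ^ q)⁻¹) ^ q * (c * c ^ q * c ^ (q ^ 2)) = c
    rw [inv_pow, ← pow_mul, ← pow_two]
    calc (c ^ q)⁻¹ * (c ^ q ^ 2)⁻¹ * (c * c ^ q * c ^ q ^ 2)
        = c * ((c ^ q)⁻¹ * c ^ q) * ((c ^ q ^ 2)⁻¹ * c ^ q ^ 2) := by ac_rfl
      _ = c := by simp
  | 0, h => exact absurd (Or.inl rfl) h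
  | 1, h => exact absurd (Or.inr (Or.inl rfl)) h
  | 4, h => exact absurd (Or.inr (Or.inr rfl)) h

omit Z in
/-- two factors are separated by the torus -/
theorem separate (h3 : 3 ≤ q) : ∀ i j : Fin 6, i < j → ∃ s : TPar F q,
    (wgt q i s.1 s.2.1 = 1 ∧ wgt q j s.1 s.2.1 ≠ 1) ∨
    (wgt q j s.1 s.2.1 = 1 ∧ wgt q i s.1 s.2.1 ≠ 1) := by
  obtain ⟨u, hu, hu1, hu2⟩ := norm_one_elt hq hK
  obtain ⟨g, hgN, -⟩ := norm_ne_one hq hK h3
  obtain ⟨v, hv, hv1⟩ : ∃ v : Fˣ, v ^ q = v ∧ v ≠ 1 := ⟨_, norm_fixed hq hK g, hgN⟩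
  have one : (1 : Fˣ) ^ q = 1 := one_pow q
  have hvi : v⁻¹ ^ q = v⁻¹ := by rw [inv_pow, hv]
  let A : TPar F q := ⟨u, 1, one⟩
  let B : TPar F q := ⟨1, v, hv⟩
  let C : TPar F q := ⟨v⁻¹, v, hv⟩
  let N : TPar F q := ⟨g, 1, one⟩
  let M : TPar F q := ⟨g, (g * g ^ q * g ^ (q ^ 2))⁻¹, by rw [inv_pow, norm_fixed hq hK]⟩
  have a0 : wgt q 0 A.1 A.2.1 = 1 := by show _ * (1 : Fˣ) ^ 2 = 1; rw [one_pow, mul_one]; exact hu
  have a1 : wgt q 1 A.1 A.2.1 = 1 := by show _ * (1 : Fˣ) = 1; rw [mul_one]; exact hu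
  have a4 : wgt q 4 A.1 A.2.1 = 1 := rfl
  have a2 : wgt q 2 A.1 A.2.1 ≠ 1 := by show _ * (1 : Fˣ) ≠ 1; rw [mul_one]; exact hu2
  have a3 : wgt q 3 A.1 A.2.1 ≠ 1 := by show u * (1 : Fˣ) ≠ 1; rw [mul_one]; exact hu1
  have a5 : wgt q 5 A.1 A.2.1 ≠ 1 := hu1
  intro i j hij
  fin_cases i <;> fin_cases j <;> first | (exact absurd hij (by decide)) | skip
  all_goals first
    | exact ⟨A, Or.inl ⟨a0, a2⟩⟩
    | exact ⟨A, Or.inl ⟨a0, a3⟩⟩
    | exact ⟨A, Or.inl ⟨a0, a5⟩⟩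
    | exact ⟨A, Or.inl ⟨a1, a2⟩⟩
    | exact ⟨A, Or.inl ⟨a1, a3⟩⟩
    | exact ⟨A, Or.inl ⟨a1, a5⟩⟩
    | exact ⟨A, Or.inl ⟨a4, a5⟩⟩
    | exact ⟨A, Or.inr ⟨a4, a2⟩⟩
    | exact ⟨A, Or.inr ⟨a4, a3⟩⟩
    | skip
  · refine ⟨M, Or.inr ⟨mul_inv_cancel _, ?_⟩⟩
    show g * g ^ q * g ^ (q ^ 2) * ((g * g ^ q * g ^ (q ^ 2))⁻¹) ^ 2 ≠ 1
    rw [pow_two (_⁻¹), mul_inv_cancel_left, Ne, inv_eq_one]
    exact hgN
  · refine ⟨N, Or.inr ⟨rfl, ?_⟩⟩
    show _ * (1 : Fˣ) ^ 2 ≠ 1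
    rw [one_pow, mul_one]
    exact hgN
  · refine ⟨N, Or.inr ⟨rfl, ?_⟩⟩
    show _ * (1 : Fˣ) ≠ 1
    rw [mul_one]
    exact hgN
  · refine ⟨C, Or.inr ⟨inv_mul_cancel v, ?_⟩⟩
    show v⁻¹ * v⁻¹ ^ q * v ≠ 1
    rw [hvi, inv_mul_cancel_right, Ne, inv_eq_one]
    exact hv1
  · refine ⟨B, Or.inr ⟨rfl, ?_⟩⟩
    show 1 * (1 : Fˣ) ^ q * v ≠ 1
    rw [one, one_mul, one_mul]
    exact hv1
  · refine ⟨B, Or.inr ⟨rfl, ?_⟩⟩
    show 1 * v ≠ 1
    rw [one_mul]
    exact hv1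


omit Z in
theorem moves_of (h3 : 3 ≤ q) (i : Fin 6) : ∃ s : TPar F q, wgt q i s.1 s.2.1 ≠ 1 := by
  obtain ⟨g, hgN, hg⟩ := norm_ne_one hq hK h3
  by_cases hi : small i
  · match i, hi with
    | 0, _ => exact ⟨⟨g, 1, one_pow q⟩, by show _ * (1 : Fˣ) ^ 2 ≠ 1; rw [one_pow, mul_one]; exact hgN⟩
    | 1, _ => exact ⟨⟨g, 1, one_pow q⟩, by show _ * (1 : Fˣ) ≠ 1; rw [mul_one]; exact hgN⟩
    | 4, _ => exact ⟨⟨1, _, norm_fixed hq hK g⟩, hgN⟩
    | 2, h => exact absurd h (by simp [small])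
    | 3, h => exact absurd h (by simp [small])
    | 5, h => exact absurd h (by simp [small])
  · obtain ⟨s, hs⟩ := wgt_onto hq hK hi g
    exact ⟨s, by rw [hs]; exact hg⟩

open Cfsg.Agent.KnownSimple

theorem x_of_eF {i : Fin 6} {r : Fin MT.tab.n} (hr : fac i = [r]) (hrep : rep i = r) {t : F}
    (ht : t ∈ Vf hq hK i) : (eF Z hq hK i t : ↥(chevD4.group F)) = (MT.rel K).x r t := by
  rw [eF_coe Z hq hK i ht, hr]
  simp [prodX, ← hrep, co_rep]

theorem fixed_of_mem {r : Fin MT.tab.n} (hr : r ∈ ([14, 22, 23] : List (Fin MT.tab.n))) {t : F}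
    (h : (MT.rel K).x r t ∈ G₁) : t ^ q = t := by
  have h2 := fixed_gen Z hq hK _ h
  rw [Z.σ_x, lam_q] at h2
  obtain rfl | rfl | rfl : r = 14 ∨ r = 22 ∨ r = 23 := mem_three hr
  · rw [show fd.O.rho (14 : Fin MT.tab.n) = 14 from rfl,
      show (PP.ef (14 : Fin MT.tab.n).val : F) = 1 from Int.cast_one, one_mul] at h2
    exact Z.iso.x_injective _ h2
  · rw [show fd.O.rho (22 : Fin MT.tab.n) = 22 from rfl,
      show (PP.ef (22 : Fin MT.tab.n).val : F) = 1 from Int.cast_one, one_mul] at h2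
    exact Z.iso.x_injective _ h2
  · rw [show fd.O.rho (23 : Fin MT.tab.n) = 23 from rfl,
      show (PP.ef (23 : Fin MT.tab.n).val : F) = 1 from Int.cast_one, one_mul] at h2
    exact Z.iso.x_injective _ h2

variable {Γ : Type u} [Group Γ] [Finite Γ]

theorem long_comm (σ : Γ →* ↥G₁) (hσ : Function.Surjective σ) (hc : σ.ker ≤ Subgroup.center Γ) {i : Fin 6}
    (hi : small i) (a b : Γ) {v w : F} (hv : v ∈ Vf hq hK i) (hw : w ∈ Vf hq hK i)
    (ha : σ a = eF Z hq hK i v) (hb : σ b = eF Z hq hK i w) : ⁅a, b⁆ = 1 := by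
  let P : ↥G₁ → Prop := fun g => ∃ t : F, t ^ q = t ∧ (g : ↥(chevD4.group F)) = (MT.rel K).x 23 t
  have s4 : small (4 : Fin 6) := Or.inr (Or.inr rfl)
  have s1 : small (1 : Fin 6) := Or.inr (Or.inl rfl)
  have base : ∀ a b : Γ, P (σ a) → P (σ b) → ⁅a, b⁆ = 1 := by
    rintro a b ⟨t, ht, eat⟩ ⟨u, hu, ebu⟩
    have h14 : t ∈ Vf hq hK 4 := (mem_Vf_small hq hK s4).2 ht
    have h22 : (1 : F) ∈ Vf hq hK 1 := (mem_Vf_small hq hK s1).2 (one_pow q)
    have x14 := x_of_eF Z hq hK (i := 4) (r := 14) rfl rfl h14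
    have x22 := x_of_eF Z hq hK (i := 1) (r := 22) rfl rfl h22
    refine Pairing.comm_of_commutator hσ hc (x := eF Z hq hK 4 t) (y := eF Z hq hK 1 1) ?_ ?_ ?_
    · refine Subtype.ext ?_
      have h3 := IsoHyp.conj_eq (T := MT) (K := K) Z.iso.comm (MT.lt (14 : Fin MT.tab.n))
        (MT.lt (22 : Fin MT.tab.n)) (by decide) (by decide +kernel) t (1 : F)
      simp only [IsoHyp.xN_val, show chevD4.commTerms (14 : Fin MT.tab.n).val (22 : Fin MT.tab.n).val =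
        [((23 : Fin MT.tab.n).val, 1, 1, 1)] by decide +kernel, List.map_cons, List.map_nil,
        List.prod_cons, List.prod_nil, mul_one, IsoHyp.val, pow_one, Int.cast_one, one_mul] at h3
      rw [eat, show ((⁅eF Z hq hK 4 t, eF Z hq hK 1 1⁆ : ↥G₁) : ↥(chevD4.group F)) =
        ⁅(eF Z hq hK 4 t : ↥(chevD4.group F)), (eF Z hq hK 1 1 : ↥(chevD4.group F))⁆ from rfl,
        x14, x22, commutatorElement_def, ← (MT.rel K).x_neg (14 : Fin MT.tab.n), h3,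
        (Z.commute_x (a := (22 : Fin MT.tab.n)) (b := (23 : Fin MT.tab.n)) (by decide +kernel) _ _).eq,
        mul_inv_cancel_right]
    · refine Subtype.ext ?_
      rw [Subgroup.coe_mul, Subgroup.coe_mul, ebu, x14]
      exact (Z.commute_x (a := (23 : Fin MT.tab.n)) (b := (14 : Fin MT.tab.n)) (by decide +kernel) _ _).eq
    · refine Subtype.ext ?_
      rw [Subgroup.coe_mul, Subgroup.coe_mul, ebu, x22]
      exact (Z.commute_x (a := (23 : Fin MT.tab.n)) (b := (22 : Fin MT.tab.n)) (by decide +kernel) _ _).eq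
  have X := gens Z hq hK
  -- transport along the Weyl group
  have key : ∀ (r : Fin MT.tab.n), r ∈ ([14, 22, 23] : List (Fin MT.tab.n)) → ∀ (W : List (Fin MT.tab.l))
      (g : ↥G₁), InCoset (MT.rel K) (g : ↥(chevD4.group F)) W → (MT.S).actw W 23 = r →
      ∀ t : F, ∀ y : ↥G₁, (y : ↥(chevD4.group F)) = (MT.rel K).x r t → P (g⁻¹ * y * g) := by
    intro r hr W g hg hW t y hy
    obtain ⟨d, hd, hd'⟩ := hg.conj_x 23
    rw [hW] at hd'
    have e : ((g⁻¹ * y * g : ↥G₁) : ↥(chevD4.group F)) = (MT.rel K).x 23 (d⁻¹ * t) := by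
      rw [Subgroup.coe_mul, Subgroup.coe_mul, Subgroup.coe_inv, hy]
      have := hd' (d⁻¹ * t)
      rw [mul_inv_cancel_left₀ hd] at this
      rw [← this]
      group
    exact ⟨_, fixed_of_mem Z hq hK (r := 23) (by decide) (e ▸ (g⁻¹ * y * g).2), e⟩
  let n1 : ↥G₁ := ⟨_, X.nj_mem 1⟩
  let n0 : ↥G₁ := ⟨_, X.nj_mem 0⟩
  match i, hi with
  | 0, _ =>
    exact base a b ⟨v, (mem_Vf_small hq hK (Or.inl rfl)).1 hv, by rw [ha, x_of_eF Z hq hK rfl rfl hv]; rfl⟩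
      ⟨w, (mem_Vf_small hq hK (Or.inl rfl)).1 hw, by rw [hb, x_of_eF Z hq hK rfl rfl hw]; rfl⟩
  | 4, _ =>
    have hc := (X.nj_coset 1).mul _ (X.nj_coset 0)
    exact Pairing.comm_of_conj hσ base (n1 * n0)
      (key 14 (by decide) _ (n1 * n0) hc (by decide +kernel) v _ (by rw [ha]; exact x_of_eF Z hq hK rfl rfl hv))
      (key 14 (by decide) _ (n1 * n0) hc (by decide +kernel) w _ (by rw [hb]; exact x_of_eF Z hq hK rfl rfl hw))
  | 1, _ =>
    have hc := (X.nj_coset 1).mul _ ((X.nj_coset 1).mul _ (X.nj_coset 0))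
    exact Pairing.comm_of_conj hσ base (n1 * (n1 * n0))
      (key 22 (by decide) _ (n1 * (n1 * n0)) hc (by decide +kernel) v _ (by rw [ha]; exact x_of_eF Z hq hK rfl rfl hv))
      (key 22 (by decide) _ (n1 * (n1 * n0)) hc (by decide +kernel) w _ (by rw [hb]; exact x_of_eF Z hq hK rfl rfl hw))
  | 2, h => exact absurd h (by simp [small])
  | 3, h => exact absurd h (by simp [small])
  | 5, h => exact absurd h (by simp [small])

/-- the unipotent subgroup -/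
abbrev UF : Subgroup ↥G₁ := FlF 6

omit Z hq hK in
theorem FlF_zero : (FlF 0 : Subgroup ↥G₁) = ⊥ := by
  refine (Subgroup.eq_bot_iff_forall _).2 fun g hg => ?_
  have h : (g : ↥(chevD4.group F)) ∈ Sg (MT.rel K) (· ∈ lev 0) := hg
  have : Sg (MT.rel K) (fun r => r ∈ lev 0) = ⊥ := Subgroup.closure_eq_bot_iff.2 (by
    rintro y ⟨r, t, hr, -⟩
    exact absurd hr (List.not_mem_nil))
  rw [this, Subgroup.mem_bot] at h
  exact Subtype.ext h

omit Z hq hK in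
theorem FlF_mono {i : ℕ} (hi : i < 6) : (FlF i : Subgroup ↥G₁) ≤ FlF (i + 1) := by
  intro g hg
  refine Sg_mono (MT.rel K) (T := (· ∈ lev i)) (fun r hr => ?_) hg
  have h : ∀ i : Fin 6, ∀ r ∈ lev i.val, r ∈ lev (i.val + 1) := by decide +kernel
  exact h ⟨i, hi⟩ r hr

omit Z hq hK in
theorem FlF_le {i : ℕ} (hi : i ≤ 6) : (FlF i : Subgroup ↥G₁) ≤ UF := by
  obtain ⟨k, hk⟩ := Nat.exists_eq_add_of_le hi
  induction k generalizing i with
  | zero => rw [show i = 6 by omega]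
  | succ k ih => exact (FlF_mono (by omega)).trans (ih (by omega) (by omega))

theorem FlF_central (i : Fin 6) {g u : ↥G₁} (hg : g ∈ FlF (i.val + 1)) (hu : u ∈ UF) :
    ⁅g, u⁆ ∈ FlF i.val := by
  have hu' : (u : ↥(chevD4.group F)) ∈ (MT.rel K).U := by
    refine Sg_mono (MT.rel K) (T := (· ∈ lev 6)) (fun r hr => ?_) (Subgroup.mem_subgroupOf.1 hu)
    have h : ∀ r ∈ lev 6, r ∈ MT.posList := by decide +kernel
    exact mem_pl.1 (h r hr)
  exact Z.level_central (lev_ok i) hu' (Subgroup.mem_subgroupOf.1 hg)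

theorem eF_mem (i : Fin 6) (t : F) : eF Z hq hK i t ∈ FlF (i.val + 1) := by
  by_cases ht : t ∈ Vf hq hK i
  · refine Subgroup.mem_subgroupOf.2 ?_
    rw [eF_coe Z hq hK i ht]
    refine Subgroup.list_prod_mem _ fun y hy => ?_
    obtain ⟨r, hr, rfl⟩ := List.mem_map.1 hy
    refine x_mem_Sg _ (T := (· ∈ lev (i.val + 1))) ?_ _
    rw [← fac_eq i] at hr
    exact List.mem_of_mem_filter hr
  · rw [eF, dif_neg ht]
    exact one_mem _

/-- the series of the unipotent subgroup -/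
noncomputable def series (h3 : 3 ≤ q) : Series.Data (↥G₁) F (TPar F q) (UF : Subgroup ↥G₁) 6 where
  h := hT Z hq hK
  h_comm s t := by
    refine Subtype.ext ?_
    show tor MT K _ * tor MT K _ = tor MT K _ * tor MT K _
    rw [← Z.tor_mul, ← Z.tor_mul, mul_comm]
  h_norm s u hu := by
    refine Subgroup.mem_subgroupOf.2 ?_
    rw [Subgroup.coe_mul, Subgroup.coe_mul, Subgroup.coe_inv]
    exact H_conj_Sg (MT.rel K) (Z.tor_mem_H _) (Subgroup.mem_subgroupOf.1 hu)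
  Fl i := FlF (min i 6)
  Fl_zero := FlF_zero
  Fl_mono i := by
    by_cases hi : i < 6
    · rw [Nat.min_eq_left hi.le, Nat.min_eq_left hi]
      exact FlF_mono hi
    · rw [Nat.min_eq_right (by omega), Nat.min_eq_right (by omega)]
  Fl_le i := FlF_le (min_le_right _ _)
  top := le_rfl
  V := Vf hq hK
  e := eF Z hq hK
  χ i s := (wgt q i s.1 s.2.1 : F)
  mem i v _ := by
    rw [Nat.min_eq_left (by omega : i.val + 1 ≤ 6)]
    exact eF_mem Z hq hK i v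
  dec i g hg := by
    rw [Nat.min_eq_left (by omega : i.val + 1 ≤ 6)] at hg
    rw [Nat.min_eq_left (by omega : i.val ≤ 6)]
    exact FlF_dec Z hq hK i hg
  add i v hv w hw := by rw [eF_add Z hq hK i hv hw, inv_mul_cancel]; exact one_mem _
  inj i v hv h := by
    rw [Nat.min_eq_left (by omega : i.val ≤ 6)] at h
    exact FlF_inj Z hq hK i hv h
  central i g hg u hu := by
    rw [Nat.min_eq_left (by omega : i.val + 1 ≤ 6)] at hg
    rw [Nat.min_eq_left (by omega : i.val ≤ 6)]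
    exact FlF_central Z hq hK i hg hu
  χ_mem i s v hv := wgt_mul_mem hq hK i s hv
  scale i s v hv := by
    rw [hT_conj Z hq hK i s hv (wgt_mul_mem hq hK i s hv), inv_mul_cancel]
    exact one_mem _
  moves i := by
    obtain ⟨s, hs⟩ := moves_of hq hK h3 i
    exact ⟨s, fun e => hs (Units.ext e)⟩

theorem local_char (h3 : 3 ≤ q) (σ : Γ →* ↥G₁) (hσ : Function.Surjective σ)
    (hc : σ.ker ≤ Subgroup.center Γ) : σ.ker ⊓ ⁅UF.comap σ, UF.comap σ⁆ = ⊥ := by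
  classical
  refine Series.ker_inf_commutator (series Z hq hK h3) σ hσ hc fun i j hij => ?_
  have hinv : ∀ (i : Fin 6) (c : F), c ∈ Set.range (fun s : TPar F q => (wgt q i s.1 s.2.1 : F)) →
      c ≠ 1 → ∀ w ∈ Vf hq hK i, (c - 1)⁻¹ * w ∈ Vf hq hK i := by
    rintro i c ⟨s, rfl⟩ hne w hw
    by_cases hi : small i
    · rw [mem_Vf_small hq hK hi] at hw ⊢
      have e : ((wgt q i s.1 s.2.1 : F) - 1) ^ q = (wgt q i s.1 s.2.1 : F) - 1 := by
        rw [sub_eq_add_neg, (qpow_hom hq hK).1, qpow_neg hq hK, one_pow, ← Units.val_pow_eq_pow_val,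
          wgt_fixed hq hK hi]
      rw [mul_pow, inv_pow, e, hw]
    · exact mem_Vf_big hq hK hi _
  rcases eq_or_lt_of_le hij with rfl | hlt
  · by_cases hi : small i
    · exact Or.inr fun a b v hv w hw ha hb => long_comm Z hq hK σ hσ hc hi a b hv hw ha hb
    · refine Or.inl fun A _ B hB _ v w => ?_
      let f : F →+ Vf hq hK i := AddMonoidHom.mk' (fun x => ⟨x, mem_Vf_big hq hK hi x⟩) fun _ _ => rfl
      let B' : F →+ F →+ A := ((B.comp f).flip.comp f).flip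
      have h5 : 5 ≤ Nat.card F := by
        rw [Nat.card_eq_fintype_card, hK]
        nlinarith [Nat.pow_le_pow_left h3 3]
      refine Pairing.zero_of_scalars h5 B' (fun c hc0 x y => ?_) v.1 w.1
      obtain ⟨s, hs⟩ := wgt_onto hq hK hi (Units.mk0 c hc0)
      have h := hB s (f x) (f y)
      have hsF : (wgt q i s.1 s.2.1 : F) = c := congrArg Units.val hs
      refine Eq.trans ?_ h
      show B (f (c * x)) (f (c * y)) = _
      congr 2 <;> exact Subtype.ext (by show c * _ = _; rw [← hsF]; rfl)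
  · refine Or.inl fun A _ B hB _ v w => ?_
    obtain ⟨s, hs⟩ := separate hq hK h3 i j hlt
    rcases hs with ⟨h1, h2⟩ | ⟨h1, h2⟩
    · have hne : (wgt q j s.1 s.2.1 : F) ≠ 1 := fun e => h2 (Units.ext e)
      refine Pairing.zero_of_right B hne (fun w hw => wgt_mul_mem hq hK j s hw)
        (hinv j _ ⟨s, rfl⟩ hne) (fun v w => ?_) v w
      refine Eq.trans ?_ (hB s v w)
      congr 2
      exact Subtype.ext (by show _ = ((wgt q i s.1 s.2.1 : Fˣ) : F) * _; rw [h1, Units.val_one, one_mul])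
    · have hne : (wgt q i s.1 s.2.1 : F) ≠ 1 := fun e => h2 (Units.ext e)
      have := Pairing.zero_of_right B.flip hne (fun w hw => wgt_mul_mem hq hK i s hw)
        (hinv i _ ⟨s, rfl⟩ hne) (fun w v => ?_) w v
      · exact this
      refine Eq.trans ?_ (hB s v w)
      show B _ w = _
      congr 1
      exact Subtype.ext (by show _ = ((wgt q j s.1 s.2.1 : Fˣ) : F) * _; rw [h1, Units.val_one, one_mul])

end Cfsg.Agent.Twisted.TypeD4
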