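import Cfsg.Agent.KnownSimple.Multiplier.D4.Levi
import Cfsg.Agent.KnownSimple.Multiplier.LiftLocal
import Cfsg.Agent.KnownSimple.Multiplier.SL2
import Cfsg.Agent.Twisted.Transfer

/-!
Stem extensions of `³D₄(q)` are trivial, given the condition at the characteristic (helper53).
-/

set_option autoImplicit false
set_option linter.unusedSectionVars false

namespace Cfsg.Agent.Twisted.TypeD4

open ChevGroup ChevIsogeny Cfsg.Lie
open Cfsg.Agent.KnownSimple
open Cfsg.Agent.ChevCore (slU slL pn ph)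
open scoped commutatorElement

universe w

variable {F : Type w} [Field F] [Fintype F] {q : ℕ} {K : Rels chevD4 F}
  (Z : Frame (T := MT) K PP q fd)
  (hq : IsPrimePow q) (hK : Fintype.card F = q ^ 3)

set_option quotPrecheck false in
local notation "G₁" => genG MT K (d4Words F q)

theorem mem_UF_iff {g : ↥G₁} : g ∈ (UF : Subgroup ↥G₁) ↔ (g : ↥(chevD4.group F)) ∈ (MT.rel K).U := by
  have h : ∀ r : Fin MT.tab.n, r ∈ lev 6 ↔ r ∈ MT.posList := by decide +kernel
  refine ⟨fun hg => Sg_mono (MT.rel K) (T := (· ∈ lev 6)) (fun r hr => mem_pl.1 ((h r).1 hr)) hg,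
    fun hg => Sg_mono (MT.rel K) (T := (MT.S).pos) (fun r hr => (h r).2 (mem_pl.2 hr)) hg⟩

include Z hq hK

theorem card_U1_eq : Nat.card ↥(gens Z hq hK).data.U1 = q ^ 12 := by
  rw [(gens Z hq hK).data.card_U1 (MT.shapeR K) ((gens Z hq hK).longest long_ok)]
  simp only [W0, List.map_cons, List.map_nil, List.prod_cons, List.prod_nil, card_X0 Z hq hK,
    card_X1 Z hq hK]
  ring

theorem card_UF : Nat.card ↥(UF : Subgroup ↥G₁) = q ^ 12 := by
  rw [← card_U1_eq Z hq hK]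
  exact Nat.card_congr
    { toFun := fun g => ⟨(g.1 : ↥(chevD4.group F)), Subgroup.mem_inf.2 ⟨g.1.2, mem_UF_iff.1 g.2⟩⟩
      invFun := fun g => ⟨⟨g.1, (Subgroup.mem_inf.1 g.2).1⟩, mem_UF_iff.2 (Subgroup.mem_inf.1 g.2).2⟩
      left_inv := fun _ => rfl
      right_inv := fun _ => rfl }

theorem index_UF {p : ℕ} (hp : p.Prime) (hpq : p ∣ q) : ¬ p ∣ (UF : Subgroup ↥G₁).index := by
  have h1 : Nat.card ↥G₁ = q ^ 12 * ((q ^ 2 - 1) * (q ^ 6 - 1) * (q ^ 8 + q ^ 4 + 1)) := by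
    rw [← mul_assoc, ← mul_assoc, ← card_G Z hq hK]
    exact Nat.card_congr (genEquiv MT K (d4Words F q)).toEquiv
  have h2 := (UF : Subgroup ↥G₁).card_mul_index
  rw [card_UF Z hq hK, h1] at h2
  rw [Nat.eq_of_mul_eq_mul_left (pow_pos hq.pos _) h2]
  intro h
  have hq1 : ∀ n, n ≠ 0 → ¬ p ∣ q ^ n - 1 := fun n hn hd => hp.not_dvd_one (by
    have := Nat.dvd_sub (hpq.trans (dvd_pow_self q hn)) hd
    rwa [Nat.sub_sub_self (Nat.one_le_pow _ _ hq.pos)] at this)
  rcases hp.dvd_mul.1 h with h | h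
  · rcases hp.dvd_mul.1 h with h | h
    · exact hq1 2 (by norm_num) h
    · exact hq1 6 (by norm_num) h
  · have hd : p ∣ q ^ 8 + q ^ 4 := (Dvd.dvd.add (hpq.trans (dvd_pow_self q (by norm_num)))
      (hpq.trans (dvd_pow_self q (by norm_num))))
    exact hp.not_dvd_one ((Nat.dvd_add_right hd).1 h)

omit Z in
theorem natCast_zero {p j : ℕ} (hp : p.Prime) (hj : q = p ^ j) : (p : F) = 0 := by
  obtain ⟨r, i, hr, hc, e, hi⟩ := exists_char_pow hq hK
  obtain ⟨-, rfl⟩ : _ ∧ r = p := ⟨hi, (Nat.prime_dvd_prime_iff_eq hr hp).1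
    (hr.dvd_of_dvd_pow (hj ▸ e.symm ▸ dvd_pow_self r hi.ne'))⟩
  haveI := hc
  exact CharP.cast_eq_zero F r

theorem H_comm {a b : ↥(chevD4.group F)} (ha : a ∈ (MT.rel K).H) (hb : b ∈ (MT.rel K).H) :
    a * b = b * a := by
  obtain ⟨c, rfl⟩ := Z.exists_tor torOk ha
  obtain ⟨d, rfl⟩ := Z.exists_tor torOk hb
  rw [← Z.tor_mul, ← Z.tor_mul, mul_comm]

/-- the two rank one subgroups -/
noncomputable def Lk (k : Fin 2) : Subgroup ↥(chevD4.group F) :=
  if k = 0 then (levi0 (K := K) hq hK).range else (levi1 Z hq hK).range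

theorem lev_exists {p j : ℕ} (hp : p.Prime) (hj : q = p ^ j) (k : Fin 2) :
    ∃ (E : Type w) (_ : Field E) (ψ : Matrix.SpecialLinearGroup (Fin 2) E →* ↥(chevD4.group F)),
      (gens Z hq hK).data.IsLevi k ψ ∧ Lk Z hq hK k = ψ.range ∧ (p : E) = 0 := by
  have h0 := natCast_zero hq hK hp hj
  match k with
  | 0 => exact ⟨_, inferInstance, _, isLevi0 Z hq hK, if_pos rfl, Subtype.ext (by simpa using h0)⟩
  | 1 => exact ⟨_, inferInstance, _, isLevi1 Z hq hK, if_neg (by decide), h0⟩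

theorem H1_gen {h : ↥(chevD4.group F)} (hh : h ∈ (gens Z hq hK).data.H1) :
    h ∈ ⨆ k, Lk Z hq hK k ⊓ (gens Z hq hK).data.H1 := by
  rw [(gens Z hq hK).H1_eq torOk (pre_eq Z) inv_ok (m := 3) (by decide) (per Z hq hK)] at hh
  obtain ⟨c, hc, rfl⟩ := hh
  have hs : ∀ j, c (pre j) ^ q = c j := fun j => by rw [← sig_apply Z, (Z.mem_fixedPar).1 hc]
  have e : c = cvec q (c 0) 1 * cvec q 1 (c 1) := by
    funext j
    match j with
    | 0 => show c 0 = c 0 * 1; rw [mul_one]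
    | 1 => show c 1 = 1 * c 1; rw [one_mul]
    | 2 => show c 2 = c 0 ^ q * 1 ^ q; rw [one_pow, mul_one]; exact (hs 2).symm
    | 3 =>
      show c 3 = c 0 ^ (q ^ 2) * 1 ^ (q ^ 2)
      rw [one_pow, mul_one, pow_two, pow_mul, show c 0 ^ q = c 2 from hs 2]
      exact (hs 3).symm
  rw [e, map_mul, Z.torHom_apply, Z.torHom_apply]
  have hH : ∀ a b : Fˣ, b ^ q = b → tor MT K (cvec q a b) ∈ (gens Z hq hK).data.H1 := fun a b hb =>
    Subgroup.mem_inf.2 ⟨torus_mem Z hq hK _ (sig_cvec Z hq hK a b hb), Z.tor_mem_H _⟩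
  have hc1 : c 1 ^ q = c 1 := hs 1
  refine mul_mem
    (le_iSup (fun k => Lk Z hq hK k ⊓ (gens Z hq hK).data.H1) 1
      (Subgroup.mem_inf.2 ⟨?_, hH _ _ (one_pow q)⟩))
    (le_iSup (fun k => Lk Z hq hK k ⊓ (gens Z hq hK).data.H1) 0 (Subgroup.mem_inf.2 ⟨?_, hH _ _ hc1⟩))
  · rw [Lk, if_neg (by decide), ← levi1_torus Z hq hK]
    exact ⟨_, rfl⟩
  · rw [Lk, if_pos rfl, ← levi0_torus Z hq hK (c 1) (by rw [← Units.val_pow_eq_pow_val, hc1])]
    exact ⟨_, rfl⟩

theorem braid_ok : ∀ i j : Fin 2, i ≠ j → CoxeterMatrix.G₂ i j ≠ 0 → ∃ (P : List (Fin 2)) (s t : Fin 2),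
    (P ++ [s] ++ P.reverse ++ [t] = (List.replicate (CoxeterMatrix.G₂ i j) [i, j]).flatten ∨
      P ++ [s] ++ P.reverse ++ [t] = (List.replicate (CoxeterMatrix.G₂ i j) [j, i]).flatten) ∧
    (∀ r ∈ fd.O.cls s, (MT.S).actw (P.map fd.O.wd).flatten r ∈ fd.O.cls t) ∧
    ∀ r, (MT.S).actw (P.map fd.O.wd).flatten ((MT.S).actw (fd.O.wd s)
      ((MT.S).actw (P.map fd.O.wd).flatten.reverse ((MT.S).actw (fd.O.wd t) r))) = r := by
  intro i j hij _
  refine ⟨[i, j, i, j, i], j, j, Or.inl ?_, ?_, ?_⟩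
  all_goals fin_cases i <;> fin_cases j <;> first | exact absurd rfl hij | decide +kernel

/-- the setup -/
noncomputable def setup {p j : ℕ} (hp : p.Prime) (hj : q = p ^ j) :
    BNLift.Setup ↥G₁ (Fin 2) p :=
  (gens Z hq hK).data.liftSetup (MT.shapeR K) p ((gens Z hq hK).longest long_ok) (gens Z hq hK).split
    Z.pres (fun _ ha _ hb => H_comm Z hq hK ha hb)
    (fun u hu => ⟨j * 12, by
      have := pow_card_eq_one' (x := (⟨u, hu⟩ : ↥(gens Z hq hK).data.U1))
      rw [card_U1_eq Z hq hK] at this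
      rw [show p ^ (j * 12) = q ^ 12 by rw [hj, pow_mul]]
      exact congrArg Subtype.val this⟩)
    (Lk Z hq hK) (lev_exists Z hq hK hp hj) (fun _ hh => H1_gen Z hq hK hh) CoxeterMatrix.G₂ psi psi_inj
    (fun k r => by rw [psi_simple]; rfl) (braid_ok Z hq hK)

theorem ker_eq_bot {p j : ℕ} (hp : p.Prime) (hj : q = p ^ j) {Γ : Type w} [Group Γ] [Finite Γ]
    (σ : Γ →* ↥G₁) (hσ : Cfsg.IsStemExtension σ)
    (hloc : σ.ker ⊓ ⁅(UF : Subgroup ↥G₁).comap σ, (UF : Subgroup ↥G₁).comap σ⁆ = ⊥) : σ.ker = ⊥ := by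
  classical
  haveI := Fact.mk hp
  obtain ⟨hσs, hσc, hσd⟩ := hσ
  have hp0 := natCast_zero hq hK hp hj
  have hj0 : j ≠ 0 := by rintro rfl; exact hq.ne_one hj
  have hcop : (Nat.card σ.ker).Coprime p := by
    refine (hp.coprime_iff_not_dvd.2 fun hd => ?_).symm
    obtain ⟨⟨z, hz⟩, ho⟩ := exists_prime_orderOf_dvd_card' p hd
    rw [Subgroup.orderOf_mk] at ho
    have hmem := Cfsg.Agent.Schur.pow_index_mem_commutator ((UF : Subgroup ↥G₁).comap σ) (hσc hz) (hσd hz)
    rw [Subgroup.map_subtype_commutator, Subgroup.index_comap_of_surjective _ hσs] at hmem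
    have h1 : z ^ (UF : Subgroup ↥G₁).index ∈ (⊥ : Subgroup Γ) := hloc ▸ ⟨pow_mem hz _, hmem⟩
    exact index_UF Z hq hK hp (hj ▸ dvd_pow_self p hj0)
      (ho ▸ orderOf_dvd_of_pow_eq_one (Subgroup.mem_bot.1 h1))
  have hperf : commutator Γ = ⊤ := by
    have hG : commutator ↥G₁ = ⊤ := (gens Z hq hK).data.commutator_eq_top (gens Z hq hK).split
      (mem_derived Z hq hK)
    have h1 : (commutator Γ).map σ = ⊤ := by
      rw [_root_.commutator_def, Subgroup.map_commutator, Subgroup.map_top_of_surjective σ hσs,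
        ← _root_.commutator_def, hG]
    rw [eq_top_iff]
    intro y _
    obtain ⟨a, ha, e⟩ : σ y ∈ (commutator Γ).map σ := by rw [h1]; trivial
    have := mul_mem ha (hσd (show a⁻¹ * y ∈ σ.ker by rw [MonoidHom.mem_ker, map_mul, map_inv, e, inv_mul_cancel]))
    simpa using this
  have hchar : ∀ (E : Type w) [Field E], (p : E) = 0 → CharP E p := fun E _ h =>
    (CharP.charP_iff_prime_eq_zero hp).2 h
  have hM := MT.shapeR K
  refine BNLift.ker_eq_bot σ (setup Z hq hK hp hj) hp hσs hσc hperf hcop (fun k => ?_) (fun f hf hprod => ?_)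
  · obtain ⟨E, _, ψ, hψ, eL, hpE⟩ := lev_exists Z hq hK hp hj k
    haveI := hchar E hpE
    have : Finite E := Finite.of_injective (fun t : E => (⟨ψ (slU t), hψ.upper_mem t⟩ :
      ↥((gens Z hq hK).data.X k))) (fun a b h => by
        have e := congrArg Subtype.val h
        have P := ChevCore.pairRel_sl (F := E)
        have : ψ (slU (a + -b)) = 1 := by
          rw [P.x_add, P.x_neg, map_mul, map_inv]
          exact mul_inv_eq_one.2 e
        exact add_neg_eq_zero.1 (hψ.upper_inj _ this))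
    let φ : Matrix.SpecialLinearGroup (Fin 2) E →* ↥G₁ := ψ.codRestrict _ hψ.mem_G₁
    refine BNLift.ker_inf_liftGen σ hσs hσc hp hcop φ
      (fun a b h => hψ.injective hM (congrArg Subtype.val h)) _ ?_ ?_
    · show φ.range = (Lk Z hq hK k).subgroupOf G₁
      rw [eL]
      ext g
      exact ⟨fun ⟨a, ha⟩ => ⟨a, congrArg Subtype.val ha⟩, fun ⟨a, ha⟩ => ⟨a, Subtype.ext ha⟩⟩
    · intro ℓ hℓ hℓp Δ _ _ τ hτ hτc
      haveI := Fact.mk hℓ
      exact ⟨_, (default : Sylow ℓ (Matrix.SpecialLinearGroup (Fin 2) E)).not_dvd_index,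
        sylow_condition hℓp default τ hτ hτc⟩
  · have hprod' : (f 0 : ↥(chevD4.group F)) * f 1 = 1 := by
      have e : ((List.finRange (Fintype.card (Fin 2))).map fun i =>
          f ((Fintype.equivFin (Fin 2)).symm i)).prod = f 0 * f 1 ∨
        ((List.finRange (Fintype.card (Fin 2))).map fun i =>
          f ((Fintype.equivFin (Fin 2)).symm i)).prod = f 1 * f 0 := by
        set e' := (Fintype.equivFin (Fin 2)).symm
        have h01 : e' ⟨0, by simp⟩ ≠ e' ⟨1, by simp⟩ := fun h => absurd (e'.injective h) (by simp)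
        have hl : (List.finRange (Fintype.card (Fin 2))) = [⟨0, by simp⟩, ⟨1, by simp⟩] := rfl
        rw [hl]
        simp only [List.map_cons, List.map_nil, List.prod_cons, List.prod_nil, mul_one]
        generalize e' ⟨0, by simp⟩ = a at h01
        generalize e' ⟨1, by simp⟩ = b at h01
        fin_cases a <;> fin_cases b <;> simp_all
      rcases e with e | e <;> rw [e] at hprod
      · exact congrArg Subtype.val hprod
      · exact (H_comm Z hq hK (a := (f 0 : ↥(chevD4.group F))) (hf 0).2 (hf 1).2).trans (congrArg Subtype.val hprod)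
    have hL0 : (f 0 : ↥(chevD4.group F)) ∈ Lk Z hq hK 0 := (hf 0).1
    have hL1 : (f 1 : ↥(chevD4.group F)) ∈ Lk Z hq hK 1 := (hf 1).1
    rw [Lk, if_pos rfl] at hL0
    rw [Lk, if_neg (by decide)] at hL1
    obtain ⟨g0, e0⟩ := hL0
    obtain ⟨g1, e1⟩ := hL1
    obtain ⟨a, ha, rfl⟩ := (isLevi0 Z hq hK).mem_H_iff hM (g := g0) (e0 ▸ (hf 0).2)
    obtain ⟨b, hb, rfl⟩ := (isLevi1 Z hq hK).mem_H_iff hM (g := g1) (e1 ▸ (hf 1).2)
    have ha' : (a : F) ≠ 0 := fun e => ha (Subtype.ext e)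
    have e0' : tor MT K (cvec q 1 (Units.mk0 (a : F) ha')) = f 0 :=
      (levi0_torus Z hq hK (Units.mk0 (a : F) ha') a.2).symm.trans e0
    have e1' : tor MT K (cvec q (Units.mk0 b hb) 1) = f 1 :=
      (levi1_torus Z hq hK (Units.mk0 b hb)).symm.trans e1
    have e01 : cvec q 1 (Units.mk0 (a : F) ha') * cvec q (Units.mk0 b hb) 1 =
        cvec q (Units.mk0 b hb) (Units.mk0 (a : F) ha') := by
      funext j
      match j with
      | 0 => exact one_mul _
      | 1 => exact mul_one _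
      | 2 => show (1 : Fˣ) ^ q * _ = _; rw [one_pow, one_mul]; rfl
      | 3 => show (1 : Fˣ) ^ (q ^ 2) * _ = _; rw [one_pow, one_mul]; rfl
    have h := cvec_one_inj Z hq hK (a := Units.mk0 b hb) (b := Units.mk0 (a : F) ha')
      (Units.ext (by rw [Units.val_pow_eq_pow_val]; exact a.2))
      (by rw [← e01, Z.tor_mul, e0', e1']; exact hprod')
    have c1 : cvec q (1 : Fˣ) (1 : Fˣ) = (1 : Fin MT.tab.l → Fˣ) := by
      funext j
      match j with
      | 0 => rfl
      | 1 => rfl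
      | 2 => exact one_pow q
      | 3 => exact one_pow (q ^ 2)
    have t1 : tor MT K (cvec q (1 : Fˣ) (1 : Fˣ)) = 1 := by rw [c1, ← Z.torHom_apply, map_one]
    rw [h.2] at e0'
    rw [h.1] at e1'
    intro k
    match k with
    | 0 => exact Subtype.ext (e0'.symm.trans t1)
    | 1 => exact Subtype.ext (e1'.symm.trans t1)

end Cfsg.Agent.Twisted.TypeD4
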