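import Cfsg.Agent.KnownSimple.Multiplier.D4.Local

/-!
Leading terms of commutators in the unipotent subgroup of `³D₄(q)` (helper53).
-/

set_option autoImplicit false
set_option linter.unusedSectionVars false

namespace Cfsg.Agent.Twisted.TypeD4

open ChevGroup ChevIsogeny Cfsg.Lie
open scoped commutatorElement

universe w

variable {F : Type w} [Field F] [Fintype F] {q : ℕ} {K : Rels chevD4 F}
  (Z : Frame (T := MT) K PP q fd)

/-- the coefficient of `u` in the commutator of `r` and `s` -/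
def coefT (r s u : Fin MT.tab.n) : ℤ :=
  (((chevD4.commTerms r.val s.val).filter fun c => decide (c.1 = u.val)).map fun c => c.2.1).sum

/-- the commutator of `r` and `s` has at most one term, in `T` -/
def pairB (T : List (Fin MT.tab.n)) (r s : Fin MT.tab.n) : Bool :=
  decide (s.val ≠ r.val) && decide (s.val ≠ chevD4.neg r.val) &&
    ((decide (chevD4.commTerms r.val s.val = []) && T.all fun u => decide (coefT r s u = 0)) ||
      T.any fun a => decide (chevD4.commTerms r.val s.val = [(a.val, coefT r s a, 1, 1)]) &&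
        PP.commuteB chevD4 s.val a.val && T.all fun u => decide (u = a) || decide (coefT r s u = 0))

omit [Fintype F] in
theorem prodX_eq_one {L : List (Fin MT.tab.n)} {v : Fin MT.tab.n → F} (h : ∀ r ∈ L, v r = 0) :
    prodX MT K L v = 1 :=
  List.prod_eq_one fun y hy => by
    obtain ⟨r, hr, rfl⟩ := List.mem_map.1 hy
    show (MT.rel K).x r (v r) = 1
    rw [h r hr]
    exact (MT.rel K).x_zero r

omit [Fintype F] in
theorem prodX_single {L : List (Fin MT.tab.n)} (hL : L.Nodup) {a : Fin MT.tab.n} (ha : a ∈ L)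
    {v : Fin MT.tab.n → F} (h : ∀ r ∈ L, r ≠ a → v r = 0) :
    prodX MT K L v = (MT.rel K).x a (v a) := by
  induction L with
  | nil => simp at ha
  | cons r L ih =>
    rw [List.nodup_cons] at hL
    rw [show prodX MT K (r :: L) v = (MT.rel K).x r (v r) * prodX MT K L v by simp [prodX]]
    by_cases hr : r = a
    · subst hr
      rw [prodX_eq_one fun s hs => h s (List.mem_cons_of_mem _ hs) fun e => hL.1 (e ▸ hs), mul_one]
    · rw [h r (List.mem_cons_self ..) hr, (MT.rel K).x_zero, one_mul]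
      exact ih hL.2 ((List.mem_cons.1 ha).resolve_left (Ne.symm hr))
        fun s hs => h s (List.mem_cons_of_mem _ hs)

include Z

theorem comm_pair {T : List (Fin MT.tab.n)} (hT : T.Nodup) {r s : Fin MT.tab.n}
    (h : pairB T r s = true) (t u : F) :
    ⁅(MT.rel K).x r t, (MT.rel K).x s u⁆ = prodX MT K T fun a => (coefT r s a : F) * t * u := by
  simp only [pairB, Bool.and_eq_true, Bool.or_eq_true, decide_eq_true_eq, List.all_eq_true,
    List.any_eq_true] at h
  obtain ⟨⟨h1, h2⟩, h⟩ := h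
  have h3 := IsoHyp.conj_eq (T := MT) (K := K) Z.iso.comm (MT.lt r) (MT.lt s) h1 h2 t u
  simp only [IsoHyp.xN_val] at h3
  rcases h with ⟨h4, h5⟩ | ⟨a, ha, ⟨h4, h5⟩, h6⟩
  · rw [h4, List.map_nil, List.prod_nil, mul_one] at h3
    rw [prodX_eq_one fun b hb => by rw [h5 b hb]; simp, commutatorElement_def,
      ← (MT.rel K).x_neg r, h3, mul_inv_cancel]
  · rw [h4] at h3
    simp only [List.map_cons, List.map_nil, List.prod_cons, List.prod_nil, mul_one, IsoHyp.val,
      IsoHyp.xN_val, pow_one] at h3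
    rw [prodX_single hT ha fun b hb hba => by
      rcases h6 b hb with e | e
      · exact absurd e hba
      · rw [e]; simp]
    rw [commutatorElement_def, ← (MT.rel K).x_neg r, h3, (Z.commute_x h5 _ _).eq, mul_inv_cancel_right]

theorem conj_top {i : Fin 6} {u g : ↥(chevD4.group F)} (hu : u ∈ (MT.rel K).U)
    (hg : g ∈ Sg (MT.rel K) (· ∈ lev (i.val + 1))) :
    g⁻¹ * (u * g * u⁻¹) ∈ Sg (MT.rel K) (· ∈ lev i.val) := by
  have h := Z.level_central (lev_ok i) hu (inv_mem hg)
  rwa [commutatorElement_def, inv_inv, mul_assoc, mul_assoc, ← mul_assoc u] at h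

theorem prodX_U {L : List (Fin MT.tab.n)} (hL : ∀ r ∈ L, r ∈ MT.posList) (v : Fin MT.tab.n → F) :
    prodX MT K L v ∈ (MT.rel K).U :=
  Z.Sg_mem_prodX (Q := (MT.S).pos) (fun r hr => mem_pl.1 (hL r hr)) v

theorem prodX_top (i : Fin 6) (v : Fin MT.tab.n → F) :
    prodX MT K (fac i) v ∈ Sg (MT.rel K) (· ∈ lev (i.val + 1)) :=
  Z.Sg_mem_prodX (Q := (· ∈ lev (i.val + 1)))
    (fun r hr => by rw [← fac_eq i] at hr; exact List.mem_of_mem_filter hr) v

theorem conj_low {i : Fin 6} {u g : ↥(chevD4.group F)} (hu : u ∈ (MT.rel K).U)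
    (hg : g ∈ Sg (MT.rel K) (· ∈ lev i.val)) :
    u * g * u⁻¹ ∈ Sg (MT.rel K) (· ∈ lev i.val) :=
  Z.conj_level_U (lev_ok i) hu hg

theorem fac_mul (i : Fin 6) (v w : Fin MT.tab.n → F) :
    prodX MT K (fac i) v * prodX MT K (fac i) w = prodX MT K (fac i) (v + w) :=
  Z.prodX_mul (fun _ hr _ hs => Z.commList_commute (fac_comm i) hr hs) _ _

theorem combine (i : Fin 6) {u g g' : ↥(chevD4.group F)} {v v' : Fin MT.tab.n → F}
    (hu : u ∈ (MT.rel K).U)
    (hg : (prodX MT K (fac i) v)⁻¹ * g ∈ Sg (MT.rel K) (· ∈ lev i.val))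
    (hg' : (prodX MT K (fac i) v')⁻¹ * g' ∈ Sg (MT.rel K) (· ∈ lev i.val)) :
    (prodX MT K (fac i) (v + v'))⁻¹ * (u * g * u⁻¹ * g') ∈ Sg (MT.rel K) (· ∈ lev i.val) := by
  have hP' : prodX MT K (fac i) v' ∈ (MT.rel K).U := prodX_U Z (fun r hr => fac_pos i r hr) v'
  have h1 := mul_mem (conj_top Z hu (prodX_top Z i v)) (conj_low Z hu hg)
  have h2 := mul_mem (conj_low Z (inv_mem hP') h1) hg'
  rw [← fac_mul Z i v v']
  rw [inv_inv] at h2
  simpa [mul_assoc] using h2

theorem comm_top_one (i : Fin 6) {r : Fin MT.tab.n} (hr : r ∈ MT.posList) (M : List (Fin MT.tab.n))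
    (hM : ∀ s ∈ M, s ∈ MT.posList) (hp : ∀ s ∈ M, pairB (fac i) r s = true) (t : F)
    (w : Fin MT.tab.n → F) :
    (prodX MT K (fac i) fun a => (M.map fun s => (coefT r s a : F) * t * w s).sum)⁻¹ *
      ⁅(MT.rel K).x r t, prodX MT K M w⁆ ∈ Sg (MT.rel K) (· ∈ lev i.val) := by
  have hnd : (fac i).Nodup := (show ∀ i : Fin 6, (fac i).Nodup by decide +kernel) i
  induction M with
  | nil =>
    rw [prodX_eq_one (by simp), show prodX MT K [] w = 1 from rfl, commutatorElement_one_right]
    simp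
  | cons s M ih =>
    have hs := List.mem_cons_self (a := s) (l := M)
    have h1 := ih (fun a ha => hM a (List.mem_cons_of_mem _ ha)) (fun a ha => hp a (List.mem_cons_of_mem _ ha))
    have hxs : (MT.rel K).x s (w s) ∈ (MT.rel K).U :=
      x_mem_Sg (MT.rel K) (T := (MT.S).pos) (mem_pl.1 (hM s hs)) _
    have hc := comm_pair Z hnd (hp s hs) t (w s)
    set v := fun a => (coefT r s a : F) * t * w s
    set v' := fun a => (M.map fun s => (coefT r s a : F) * t * w s).sum
    -- `⁅a, b c⁆ = ⁅a, b⁆ (b ⁅a, c⁆ b⁻¹)`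
    have hnew : prodX MT K (s :: M) w = (MT.rel K).x s (w s) * prodX MT K M w := by simp [prodX]
    have key : ⁅(MT.rel K).x r t, prodX MT K (s :: M) w⁆ =
        prodX MT K (fac i) v *
          ((MT.rel K).x s (w s) * ⁅(MT.rel K).x r t, prodX MT K M w⁆ * ((MT.rel K).x s (w s))⁻¹) := by
      rw [hnew, ← hc]; simp only [commutatorElement_def]; group
    have h0 : (prodX MT K (fac i) (0 : Fin MT.tab.n → F))⁻¹ * 1 ∈ Sg (MT.rel K) (· ∈ lev i.val) := by
      rw [prodX_eq_one (by simp)]; simp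
    have h2 := combine Z i hxs h1 h0
    rw [add_zero, mul_one] at h2
    rw [key, show (fun a => ((s :: M).map fun s => (coefT r s a : F) * t * w s).sum) = v + v' from
      funext fun a => by simp [v, v'], ← fac_mul Z i v v']
    simpa [mul_assoc] using h2

/-- The leading term of the commutator of two products of root elements. -/
theorem comm_top (i : Fin 6) (L M : List (Fin MT.tab.n)) (hL : ∀ r ∈ L, r ∈ MT.posList)
    (hM : ∀ s ∈ M, s ∈ MT.posList) (hp : ∀ r ∈ L, ∀ s ∈ M, pairB (fac i) r s = true)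
    (v w : Fin MT.tab.n → F) :
    (prodX MT K (fac i) fun a => (L.map fun r => (M.map fun s => (coefT r s a : F) * v r * w s).sum).sum)⁻¹ *
      ⁅prodX MT K L v, prodX MT K M w⁆ ∈ Sg (MT.rel K) (· ∈ lev i.val) := by
  induction L with
  | nil =>
    rw [prodX_eq_one (by simp), show prodX MT K [] v = 1 from rfl, commutatorElement_one_left]
    simp
  | cons r L ih =>
    have hr := List.mem_cons_self (a := r) (l := L)
    have h1 := ih (fun a ha => hL a (List.mem_cons_of_mem _ ha)) (fun a ha => hp a (List.mem_cons_of_mem _ ha))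
    have h2 := comm_top_one Z i (hL r hr) M hM (hp r hr) (v r) w
    have hxr : (MT.rel K).x r (v r) ∈ (MT.rel K).U :=
      x_mem_Sg (MT.rel K) (T := (MT.S).pos) (mem_pl.1 (hL r hr)) _
    have key : ⁅prodX MT K (r :: L) v, prodX MT K M w⁆ =
        (MT.rel K).x r (v r) * ⁅prodX MT K L v, prodX MT K M w⁆ * ((MT.rel K).x r (v r))⁻¹ *
          ⁅(MT.rel K).x r (v r), prodX MT K M w⁆ := by
      rw [show prodX MT K (r :: L) v = (MT.rel K).x r (v r) * prodX MT K L v by simp [prodX]]
      simp only [commutatorElement_def]; group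
    rw [key]
    convert combine Z i hxr h1 h2 using 4
    funext a
    simp only [List.map_cons, List.sum_cons, Pi.add_apply]
    exact add_comm _ _

omit [Fintype F] Z in
theorem pairs_ok : ((fac 5).all fun r => (fac 4).all fun s => pairB (fac 3) r s) = true ∧
    ((fac 5).all fun r => (fac 3).all fun s => pairB (fac 2) r s) = true ∧
    ((fac 5).all fun r => (fac 2).all fun s => pairB (fac 1) r s) = true := by
  refine ⟨?_, ?_, ?_⟩ <;> decide +kernel

theorem comm_not_mem (hq : IsPrimePow q) (hK : Fintype.card F = q ^ 3) (i j : Fin 6) {a b : F}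
    (hp : ((fac 5).all fun r => (fac j).all fun s => pairB (fac i) r s) = true)
    (hb : b ∈ Vf hq hK j) (u : Fin MT.tab.n) (hu : u ∈ fac i)
    (hne : ((fac 5).map fun r => ((fac j).map fun s => (coefT r s u : F) * co q a r * co q b s).sum).sum ≠ 0) :
    ⁅eF Z hq hK 5 a, eF Z hq hK j b⁆ ∉ FlF i.val := by
  intro h
  have ha : a ∈ Vf hq hK 5 := mem_Vf_big hq hK (by simp [small]) a
  have h' : ⁅(eF Z hq hK 5 a : ↥(chevD4.group F)), (eF Z hq hK j b : ↥(chevD4.group F))⁆ ∈
      Sg (MT.rel K) (· ∈ lev i.val) := h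
  rw [eF_coe Z hq hK 5 ha, eF_coe Z hq hK j hb] at h'
  simp only [List.all_eq_true] at hp
  have h1 := comm_top Z i (fac 5) (fac j) (fun r hr => fac_pos 5 r hr) (fun r hr => fac_pos j r hr) hp
    (co q a) (co q b)
  have h2 := mul_mem h' (inv_mem h1)
  rw [_root_.mul_inv_rev, mul_inv_cancel_left, inv_inv, ← fac_eq i] at h2
  exact hne (Z.level_lead (lev_ok i) h2 u (by rw [fac_eq i]; exact hu))

end Cfsg.Agent.Twisted.TypeD4
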