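import Cfsg.Agent.KnownSimple.Multiplier.D4.Top
import Cfsg.Agent.KnownSimple.Multiplier.D4.Main

/-!
The parabolic subgroup `2^(1+8) : SL_2(8)` of `³D₄(2)`: its derived subgroups and generators (helper53).
-/

set_option autoImplicit false
set_option linter.unusedSectionVars false

namespace Cfsg.Agent.Twisted.TypeD4

open ChevGroup ChevIsogeny Cfsg.Lie
open Cfsg.Agent.KnownSimple
open Cfsg.Agent.ChevCore (slU slL pn ph)
open scoped commutatorElement

universe w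

variable {F : Type w} [Field F] [Fintype F] {q : ℕ} {K : Rels chevD4 F}
  (Z : Frame (T := MT) K PP q fd)
  (hq : IsPrimePow q) (hK : Fintype.card F = q ^ 3) (h2 : q = 2)

set_option quotPrecheck false in
local notation "G₁" => genG MT K (d4Words F q)

include Z hq hK

theorem comm_mem' (i : Fin 6) {u g : ↥G₁} (hu : u ∈ (UF : Subgroup ↥G₁)) (hg : g ∈ FlF (i.val + 1)) :
    ⁅u, g⁆ ∈ FlF i.val := by
  rw [← commutatorElement_inv g u]
  exact inv_mem (FlF_central Z hq hK i hg hu)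

theorem conj_Fl (i : Fin 6) {u g : ↥G₁} (hu : u ∈ (UF : Subgroup ↥G₁)) (hg : g ∈ FlF i.val) :
    u * g * u⁻¹ ∈ FlF i.val := by
  have h := mul_mem (comm_mem' Z hq hK i hu (FlF_mono i.isLt hg)) hg
  simpa [commutatorElement_def] using h

theorem hT_conj_Fl (s : TPar F q) (i : ℕ) {g : ↥G₁} (hg : g ∈ FlF i) :
    hT Z hq hK s * g * (hT Z hq hK s)⁻¹ ∈ FlF i :=
  H_conj_Sg (MT.rel K) (Z.tor_mem_H _) hg

theorem eF_zero (i : Fin 6) : eF Z hq hK i 0 = 1 := by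
  have h := eF_add Z hq hK i (zero_mem (Vf hq hK i)) (zero_mem (Vf hq hK i))
  rw [add_zero] at h
  exact left_eq_mul.1 h

theorem eF_UF (i : Fin 6) (t : F) : eF Z hq hK i t ∈ (UF : Subgroup ↥G₁) :=
  FlF_le (by omega) (eF_mem Z hq hK i t)

theorem eF_not_mem (i : Fin 6) {t : F} (ht : t ∈ Vf hq hK i) (h0 : t ≠ 0) :
    eF Z hq hK i t ∉ FlF i.val := fun h => h0 (FlF_inj Z hq hK i ht h)

theorem comm_shift {i : Fin 6} {a o b : ↥G₁} (ha : a ∈ (UF : Subgroup ↥G₁))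
    (ho : o ∈ (UF : Subgroup ↥G₁)) (hn : o⁻¹ * b ∈ FlF (i.val + 1)) (h : ⁅a, b⁆ ∉ FlF i.val) :
    ⁅a, o⁆ ∉ FlF i.val := by
  intro h'
  refine h ?_
  have e : ⁅a, b⁆ = ⁅a, o⁆ * (o * ⁅a, o⁻¹ * b⁆ * o⁻¹) := by simp only [commutatorElement_def]; group
  rw [e]
  exact mul_mem h' (conj_Fl Z hq hK i ho (comm_mem' Z hq hK i ha hn))

include h2

omit Z in
theorem small_cases {i : Fin 6} (hi : small i) {t : F} (ht : t ∈ Vf hq hK i) : t = 0 ∨ t = 1 := by
  have h := (mem_Vf_small hq hK hi).1 ht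
  subst h2
  rcases eq_or_ne t 0 with h0 | h0
  · exact Or.inl h0
  · exact Or.inr (mul_right_cancel₀ h0 (by rw [one_mul, ← pow_two, h]))

omit Z in
theorem two_eq : (2 : F) = 0 := by
  have := natCast_zero hq hK Nat.prime_two (j := 1) (by rw [h2, pow_one])
  simpa using this

omit Z in
theorem neg_self (a : F) : -a = a :=
  neg_eq_of_add_eq_zero_left (by rw [← two_mul, two_eq hq hK h2, zero_mul])

omit Z in
theorem one_Vf (i : Fin 6) : (1 : F) ∈ Vf hq hK i := by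
  by_cases hi : small i
  · exact (mem_Vf_small hq hK hi).2 (one_pow q)
  · exact mem_Vf_big hq hK hi 1

omit Z in
theorem exists_moving : ∃ a : F, a ^ q ≠ a ∧ a ≠ 0 := by
  classical
  by_contra h
  push Not at h
  have hall : ∀ a : F, a = 0 ∨ a = 1 := fun a => by
    by_cases h0 : a = 0
    · exact Or.inl h0
    · exact small_cases hq hK h2 (i := 0) (Or.inl rfl)
        ((mem_Vf_small hq hK (Or.inl rfl)).2 (not_not.1 fun e => h0 (h a e)))
  have : Fintype.card F ≤ 2 :=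
    le_trans (Finset.card_le_card (s := Finset.univ) (t := {0, 1}) fun a _ => by simpa using hall a)
      Finset.card_le_two
  rw [hK, h2] at this
  norm_num at this

theorem calc54 : ⁅eF Z hq hK 5 1, eF Z hq hK 4 1⁆ ∉ FlF 3 := by
  refine comm_not_mem Z hq hK 3 4 (pairs_ok.1) (one_Vf hq hK h2 4) 19 (by decide) ?_
  rw [show fac 5 = ([12, 13, 18] : List (Fin MT.tab.n)) from rfl,
    show fac 4 = ([14] : List (Fin MT.tab.n)) from rfl]
  simp only [List.map_cons, List.map_nil, List.sum_cons, List.sum_nil, add_zero]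
  rw [show coefT 12 14 19 = 0 by decide +kernel, show coefT 13 14 19 = 0 by decide +kernel,
    show coefT 18 14 19 = -1 by decide +kernel]
  simp [co]

theorem calc52 : ⁅eF Z hq hK 5 1, eF Z hq hK 2 1⁆ ∉ FlF 1 := by
  refine comm_not_mem Z hq hK 1 2 (pairs_ok.2.2) (one_Vf hq hK h2 2) 22 (by decide) ?_
  rw [show fac 5 = ([12, 13, 18] : List (Fin MT.tab.n)) from rfl,
    show fac 2 = ([17, 20, 21] : List (Fin MT.tab.n)) from rfl]
  simp only [List.map_cons, List.map_nil, List.sum_cons, List.sum_nil, add_zero]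
  rw [show coefT 12 17 22 = 0 by decide +kernel, show coefT 12 20 22 = 0 by decide +kernel,
    show coefT 12 21 22 = 1 by decide +kernel, show coefT 13 17 22 = 0 by decide +kernel,
    show coefT 13 20 22 = 1 by decide +kernel, show coefT 13 21 22 = 0 by decide +kernel,
    show coefT 18 17 22 = -1 by decide +kernel, show coefT 18 20 22 = 0 by decide +kernel,
    show coefT 18 21 22 = 0 by decide +kernel]
  simp [co]
  intro e
  exact one_ne_zero (α := F) (by linear_combination e - two_eq hq hK h2)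

theorem calc53 {a : F} (ha : a ^ q ≠ a) : ⁅eF Z hq hK 5 a, eF Z hq hK 3 1⁆ ∉ FlF 2 := by
  refine comm_not_mem Z hq hK 2 3 (pairs_ok.2.1) (one_Vf hq hK h2 3) 21 (by decide) ?_
  rw [show fac 5 = ([12, 13, 18] : List (Fin MT.tab.n)) from rfl,
    show fac 3 = ([15, 16, 19] : List (Fin MT.tab.n)) from rfl]
  simp only [List.map_cons, List.map_nil, List.sum_cons, List.sum_nil, add_zero]
  rw [show coefT 12 15 21 = 0 by decide +kernel, show coefT 12 16 21 = 0 by decide +kernel,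
    show coefT 12 19 21 = 0 by decide +kernel, show coefT 13 15 21 = 0 by decide +kernel,
    show coefT 13 16 21 = 0 by decide +kernel, show coefT 13 19 21 = 1 by decide +kernel,
    show coefT 18 15 21 = 0 by decide +kernel, show coefT 18 16 21 = -1 by decide +kernel,
    show coefT 18 19 21 = 0 by decide +kernel]
  simp [co]
  intro e
  exact ha (by rw [eq_neg_of_add_eq_zero_left e, neg_self hq hK h2])

theorem spread (i : Fin 6) (hi : ¬ small i) (O : Subgroup ↥G₁)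
    (hO : ∀ s, ∀ o ∈ O, hT Z hq hK s * o * (hT Z hq hK s)⁻¹ ∈ O) {d : ↥G₁} (hd : d ∈ O)
    (hd1 : d ∈ FlF (i.val + 1)) (hd0 : d ∉ FlF i.val) {g : ↥G₁} (hg : g ∈ FlF (i.val + 1)) :
    ∃ o ∈ O, o ∈ FlF (i.val + 1) ∧ o⁻¹ * g ∈ FlF i.val := by
  obtain ⟨w, hw, hdw⟩ := FlF_dec Z hq hK i hd1
  have hw0 : w ≠ 0 := fun e => hd0 (by rw [e, eF_zero Z hq hK, inv_one, one_mul] at hdw; exact hdw)
  obtain ⟨v, hv, hgv⟩ := FlF_dec Z hq hK i hg
  by_cases hv0 : v = 0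
  · rw [hv0, eF_zero Z hq hK, inv_one, one_mul] at hgv
    exact ⟨1, one_mem _, one_mem _, by simpa using hgv⟩
  obtain ⟨s, hs⟩ := wgt_onto hq hK hi (Units.mk0 (v / w) (div_ne_zero hv0 hw0))
  have hsw : (wgt q i s.1 s.2.1 : F) * w = v := by
    rw [hs, Units.val_mk0, div_mul_cancel₀ v hw0]
  refine ⟨_, hO s d hd, hT_conj_Fl Z hq hK s _ hd1, ?_⟩
  have h1 := hT_conj Z hq hK i s hw (mem_Vf_big hq hK hi _)
  rw [hsw] at h1
  have h3 := hT_conj_Fl Z hq hK s i.val hdw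
  have e : hT Z hq hK s * ((eF Z hq hK i w)⁻¹ * d) * (hT Z hq hK s)⁻¹ =
      (eF Z hq hK i v)⁻¹ * (hT Z hq hK s * d * (hT Z hq hK s)⁻¹) := by rw [← h1]; group
  rw [e] at h3
  simpa [mul_assoc] using mul_mem (inv_mem h3) hgv

theorem down (O : Subgroup ↥G₁) (hO : ∀ s, ∀ o ∈ O, hT Z hq hK s * o * (hT Z hq hK s)⁻¹ ∈ O)
    (hc : ∀ t, ∀ o ∈ O, ⁅eF Z hq hK 5 t, o⁆ ∈ O) (hz : eF Z hq hK 0 1 ∈ O)
    {d : ↥G₁} (hd : d ∈ O) (hd1 : d ∈ FlF 4) (hd0 : d ∉ FlF 3) : FlF 4 ≤ O := by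
  have h1 : FlF 1 ≤ O := fun g hg => by
    obtain ⟨t, ht, hr⟩ := FlF_dec Z hq hK 0 (g := g) hg
    rw [show ((0 : Fin 6).val) = 0 from rfl, FlF_zero, Subgroup.mem_bot, inv_mul_eq_one] at hr
    rw [← hr]
    rcases small_cases hq hK h2 (Or.inl rfl) ht with rfl | rfl
    · rw [eF_zero Z hq hK]; exact one_mem _
    · exact hz
  obtain ⟨a, ha, -⟩ := exists_moving hq hK h2
  obtain ⟨o3, ho3, ho3', ho3''⟩ := spread Z hq hK h2 3 (by simp [small]) O hO hd hd1 hd0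
    (eF_mem Z hq hK 3 1)
  have hd2 := comm_shift Z hq hK (i := 2) (eF_UF Z hq hK 5 a) (FlF_le (by decide) ho3') ho3''
    (calc53 Z hq hK h2 ha)
  have hd2' : ⁅eF Z hq hK 5 a, o3⁆ ∈ FlF 3 := comm_mem' Z hq hK 3 (eF_UF Z hq hK 5 a) ho3'
  obtain ⟨o2, ho2, ho2', ho2''⟩ := spread Z hq hK h2 2 (by simp [small]) O hO (hc a o3 ho3) hd2' hd2
    (eF_mem Z hq hK 2 1)
  have hd1n := comm_shift Z hq hK (i := 1) (eF_UF Z hq hK 5 1) (FlF_le (by decide) ho2') ho2''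
    (calc52 Z hq hK h2)
  have hd1' : ⁅eF Z hq hK 5 1, o2⁆ ∈ FlF 2 := comm_mem' Z hq hK 2 (eF_UF Z hq hK 5 1) ho2'
  have h2' : FlF 2 ≤ O := fun g hg => by
    have hall : ∀ y : ↥G₁, y ∈ FlF 2 → y ∈ FlF 1 ∨ (eF Z hq hK 1 1)⁻¹ * y ∈ FlF 1 := fun y hy => by
      obtain ⟨t, ht, hr⟩ := FlF_dec Z hq hK 1 (g := y) hy
      rcases small_cases hq hK h2 (Or.inr (Or.inl rfl)) ht with rfl | rfl
      · rw [eF_zero Z hq hK, inv_one, one_mul] at hr; exact Or.inl hr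
      · exact Or.inr hr
    rcases hall g hg with h | h
    · exact h1 h
    · have hd' := (hall _ hd1').resolve_left hd1n
      have := mul_mem (hc 1 o2 ho2) (h1 (mul_mem (inv_mem hd') h))
      rwa [_root_.mul_inv_rev, inv_inv, mul_assoc, mul_inv_cancel_left, mul_inv_cancel_left] at this
  have h3 : FlF 3 ≤ O := fun g hg => by
    obtain ⟨o, ho, ho', hr⟩ := spread Z hq hK h2 2 (by simp [small]) O hO (hc a o3 ho3) hd2' hd2 (g := g) hg
    simpa using mul_mem ho (h2' hr)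
  intro g hg
  obtain ⟨o, ho, ho', hr⟩ := spread Z hq hK h2 3 (by simp [small]) O hO hd hd1 hd0 (g := g) hg
  simpa using mul_mem ho (h3 hr)

theorem top5 {g : ↥G₁} (hg : g ∈ FlF 5) : g ∈ FlF 4 ∨ (eF Z hq hK 4 1)⁻¹ * g ∈ FlF 4 := by
  obtain ⟨t, ht, hr⟩ := FlF_dec Z hq hK 4 (g := g) hg
  rcases small_cases hq hK h2 (Or.inr (Or.inr rfl)) ht with rfl | rfl
  · rw [eF_zero Z hq hK, inv_one, one_mul] at hr; exact Or.inl hr
  · exact Or.inr hr

theorem span (O : Subgroup ↥G₁) (hO : ∀ s, ∀ o ∈ O, hT Z hq hK s * o * (hT Z hq hK s)⁻¹ ∈ O)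
    (hc : ∀ t, ∀ o ∈ O, ⁅eF Z hq hK 5 t, o⁆ ∈ O) (hz : eF Z hq hK 0 1 ∈ O)
    (h4 : eF Z hq hK 4 1 ∈ O) : FlF 5 ≤ O := by
  have h := down Z hq hK h2 O hO hc hz (hc 1 _ h4)
    (comm_mem' Z hq hK 4 (eF_UF Z hq hK 5 1) (eF_mem Z hq hK 4 1)) (calc54 Z hq hK h2)
  intro g hg
  rcases top5 Z hq hK h2 hg with hg' | hg'
  · exact h hg'
  · simpa using mul_mem h4 (h hg')

/-- the Weyl element of the Levi subgroup -/
noncomputable def nn : ↥G₁ := ⟨_, (gens Z hq hK).nj_mem 1⟩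

/-- the parabolic subgroup -/
noncomputable def Pa : Subgroup ↥G₁ :=
  Subgroup.closure ((UF : Subgroup ↥G₁) ∪ Set.range (hT Z hq hK) ∪ {nn Z hq hK})

theorem UF_le_Pa : (UF : Subgroup ↥G₁) ≤ Pa Z hq hK := fun _ h =>
  Subgroup.subset_closure (Or.inl (Or.inl h))

theorem hT_Pa (s : TPar F q) : hT Z hq hK s ∈ Pa Z hq hK :=
  Subgroup.subset_closure (Or.inl (Or.inr ⟨s, rfl⟩))

theorem nn_Pa : nn Z hq hK ∈ Pa Z hq hK := Subgroup.subset_closure (Or.inr rfl)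

theorem nn_conj_root {r r' : Fin MT.tab.n} (hr : r' ∈ ([14, 22, 23] : List (Fin MT.tab.n)))
    (hw : (MT.S).actw (fd.O.wd 1) r = r') {g : ↥G₁}
    (hg : (g : ↥(chevD4.group F)) = (MT.rel K).x r 1) :
    ((nn Z hq hK * g * (nn Z hq hK)⁻¹ : ↥G₁) : ↥(chevD4.group F)) = (MT.rel K).x r' 1 := by
  obtain ⟨c, hc, hc'⟩ := ((gens Z hq hK).nj_coset 1).conj_x r
  have e : ((nn Z hq hK * g * (nn Z hq hK)⁻¹ : ↥G₁) : ↥(chevD4.group F)) = (MT.rel K).x r' c := by
    rw [Subgroup.coe_mul, Subgroup.coe_mul, Subgroup.coe_inv, hg, ← hw, ← mul_one c]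
    exact hc' 1
  rw [e]
  have hc1 : c = 1 := by
    have hf := fixed_of_mem Z hq hK hr (e ▸ SetLike.coe_mem _)
    exact ((small_cases hq hK h2 (i := 0) (Or.inl rfl) ((mem_Vf_small hq hK (Or.inl rfl)).2 hf))).resolve_left hc
  rw [hc1]

theorem Pa_fix {g : ↥G₁} (hg : g ∈ Pa Z hq hK) :
    g * eF Z hq hK 0 1 * g⁻¹ = eF Z hq hK 0 1 := by
  have hm : ∀ g ∈ ((UF : Subgroup ↥G₁) : Set ↥G₁) ∪ Set.range (hT Z hq hK) ∪ {nn Z hq hK},
      g * eF Z hq hK 0 1 * g⁻¹ = eF Z hq hK 0 1 := by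
    rintro g ((hg | ⟨s, rfl⟩) | rfl)
    · have h := comm_mem' Z hq hK 0 hg (eF_mem Z hq hK 0 1)
      rw [show ((0 : Fin 6).val) = 0 from rfl, FlF_zero, Subgroup.mem_bot, commutatorElement_def,
        mul_inv_eq_one] at h
      exact h
    · rw [hT_conj Z hq hK 0 s (one_Vf hq hK h2 0) (wgt_mul_mem hq hK 0 s (one_Vf hq hK h2 0)), mul_one]
      rcases small_cases hq hK h2 (i := 0) (Or.inl rfl)
        (by simpa using wgt_mul_mem hq hK 0 s (one_Vf hq hK h2 0)) with e | e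
      · exact absurd e (Units.ne_zero _)
      · rw [e]
    · refine Subtype.ext ?_
      rw [nn_conj_root Z hq hK h2 (r := 23) (r' := 23) (by decide) (by decide +kernel)
        (x_of_eF Z hq hK (i := 0) (r := 23) rfl rfl (one_Vf hq hK h2 0)),
        x_of_eF Z hq hK (i := 0) (r := 23) rfl rfl (one_Vf hq hK h2 0)]
  induction hg using Subgroup.closure_induction with
  | mem g hg => exact hm g hg
  | one => simp
  | mul a b _ _ ha hb =>
    calc a * b * eF Z hq hK 0 1 * (a * b)⁻¹ = a * (b * eF Z hq hK 0 1 * b⁻¹) * a⁻¹ := by group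
      _ = _ := by rw [hb, ha]
  | inv a _ ha =>
    conv_lhs => rw [← ha]
    group

theorem Pa_normal {g y : ↥G₁} (hg : g ∈ Pa Z hq hK) (hy : y ∈ FlF 5) : g * y * g⁻¹ ∈ FlF 5 := by
  have hm : ∀ g ∈ ((UF : Subgroup ↥G₁) : Set ↥G₁) ∪ Set.range (hT Z hq hK) ∪ {nn Z hq hK},
      ∀ y ∈ FlF 5, g * y * g⁻¹ ∈ FlF 5 ∧ g⁻¹ * y * g ∈ FlF 5 := by
    rintro g ((hg | ⟨s, rfl⟩) | rfl) y hy
    · exact ⟨conj_Fl Z hq hK 5 hg hy, by simpa using conj_Fl Z hq hK 5 (show g⁻¹ ∈ (UF : Subgroup ↥G₁) from inv_mem hg) hy⟩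
    · refine ⟨hT_conj_Fl Z hq hK s 5 hy, ?_⟩
      have := H_conj_Sg (MT.rel K) (Subgroup.inv_mem (MT.rel K).H (Z.tor_mem_H (cvec q
        ((Equiv.ofBijective _ (wmap_bij hq hK)).symm s).1 ((Equiv.ofBijective _ (wmap_bij hq hK)).symm s).2.1))) hy
      rw [inv_inv] at this
      exact this
    · exact ⟨((gens Z hq hK).nj_coset 1).conj_Sg (MT.rel K) (T := (· ∈ lev 5)) (T' := (· ∈ lev 5))
          (show ∀ r ∈ lev 5, (MT.S).actw (fd.O.wd 1) r ∈ lev 5 by decide +kernel) hy,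
        ((gens Z hq hK).nj_coset 1).inv_conj_Sg (MT.rel K) (T := (· ∈ lev 5)) (T' := (· ∈ lev 5))
          (show ∀ r ∈ lev 5, (MT.S).actw (fd.O.wd 1).reverse r ∈ lev 5 by decide +kernel) hy⟩
  revert y
  induction hg using Subgroup.closure_induction'' with
  | mem g hg => exact fun {y} hy => (hm g hg y hy).1
  | inv_mem g hg =>
    intro y hy
    rw [inv_inv]
    exact (hm g hg y hy).2
  | one => simp
  | mul a b _ _ ha hb =>
    intro y hy
    have := ha (hb hy)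
    simpa [mul_assoc] using this

theorem five_le_UF : (FlF 5 : Subgroup ↥G₁) ≤ UF := FlF_le (by decide)

theorem moved (i : Fin 6) (hi : ¬ small i) (t : F) :
    ∃ s, ∃ u : F, ⁅hT Z hq hK s, eF Z hq hK i u⁆ = eF Z hq hK i t := by
  obtain ⟨a, ha, ha0⟩ := exists_moving hq hK h2
  set g : Fˣ := Units.mk0 a ha0
  have hg0 : g ≠ 1 := fun e => ha (by rw [show a = (1 : F) from congrArg Units.val e, one_pow])
  obtain ⟨s, hs⟩ := wgt_onto hq hK hi g
  refine ⟨s, t / ((g : F) - 1), ?_⟩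
  have hne : (g : F) - 1 ≠ 0 := sub_ne_zero.2 fun e => hg0 (Units.ext e)
  have hm : ∀ x : F, x ∈ Vf hq hK i := mem_Vf_big hq hK hi
  rw [commutatorElement_def, hT_conj Z hq hK i s (hm _) (hm _), hs, mul_inv_eq_iff_eq_mul,
    ← eF_add Z hq hK i (hm _) (hm _)]
  congr 1
  field_simp
  ring

theorem Q_le_comm : FlF 5 ≤ ⁅Pa Z hq hK, (FlF 5 : Subgroup ↥G₁)⁆ := by
  set W := ⁅Pa Z hq hK, (FlF 5 : Subgroup ↥G₁)⁆ with hW
  have hnorm : ∀ g ∈ Pa Z hq hK, ∀ w ∈ W, g * w * g⁻¹ ∈ W := by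
    intro g hg w hw
    suffices W ≤ W.comap (MulAut.conj g).toMonoidHom from this hw
    rw [hW, Subgroup.commutator_le]
    intro p hp y hy
    rw [Subgroup.mem_comap, MulEquiv.coe_toMonoidHom, MulAut.conj_apply]
    rw [show g * ⁅p, y⁆ * g⁻¹ = ⁅g * p * g⁻¹, g * y * g⁻¹⁆ by simp only [commutatorElement_def]; group]
    exact Subgroup.commutator_mem_commutator (mul_mem (mul_mem hg hp) (inv_mem hg))
      (Pa_normal Z hq hK h2 hg hy)
  have hsub : W ≤ FlF 5 := by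
    rw [hW, Subgroup.commutator_le]
    intro p hp y hy
    rw [commutatorElement_def]
    exact mul_mem (Pa_normal Z hq hK h2 hp hy) (inv_mem hy)
  have hc : ∀ t, ∀ o ∈ W, ⁅eF Z hq hK 5 t, o⁆ ∈ W := fun t o ho =>
    Subgroup.commutator_mem_commutator (UF_le_Pa Z hq hK h2 (eF_UF Z hq hK 5 t)) (hsub ho)
  have hz : eF Z hq hK 0 1 ∈ W := by
    have e : eF Z hq hK 0 1 = ⁅eF Z hq hK 4 1, eF Z hq hK 1 1⁆ := by
      refine Subtype.ext ?_
      rw [show ((⁅eF Z hq hK 4 1, eF Z hq hK 1 1⁆ : ↥G₁) : ↥(chevD4.group F)) =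
        ⁅(eF Z hq hK 4 1 : ↥(chevD4.group F)), (eF Z hq hK 1 1 : ↥(chevD4.group F))⁆ from rfl,
        x_of_eF Z hq hK (i := 4) (r := 14) rfl rfl (one_Vf hq hK h2 4),
        x_of_eF Z hq hK (i := 1) (r := 22) rfl rfl (one_Vf hq hK h2 1),
        x_of_eF Z hq hK (i := 0) (r := 23) rfl rfl (one_Vf hq hK h2 0),
        comm_pair Z (T := [23]) (by decide) (show pairB [23] 14 22 = true by decide +kernel),
        show (fun a => (coefT 14 22 a : F) * 1 * 1) = fun a => ((coefT 14 22 a : ℤ) : F) * 1 * 1 from rfl]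
      simp [prodX, show coefT 14 22 23 = 1 by decide +kernel]
    rw [e]
    exact Subgroup.commutator_mem_commutator (UF_le_Pa Z hq hK h2 (eF_UF Z hq hK 4 1))
      (FlF_mono (by decide) (FlF_mono (by decide) (FlF_mono (by decide) (eF_mem Z hq hK 1 1))))
  obtain ⟨s, u, hd⟩ := moved Z hq hK h2 3 (by simp [small]) (1 : F)
  have hdW : eF Z hq hK 3 1 ∈ W := hd ▸ Subgroup.commutator_mem_commutator (hT_Pa Z hq hK h2 s)
    (FlF_mono (by decide) (eF_mem Z hq hK 3 u))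
  have h4 := down Z hq hK h2 W (fun s => hnorm _ (hT_Pa Z hq hK h2 s)) hc hz hdW (eF_mem Z hq hK 3 1)
    (eF_not_mem Z hq hK 3 (one_Vf hq hK h2 3) one_ne_zero)
  refine span Z hq hK h2 W (fun s => hnorm _ (hT_Pa Z hq hK h2 s)) hc hz ?_
  have e : (nn Z hq hK)⁻¹ * eF Z hq hK 1 1 * nn Z hq hK = eF Z hq hK 4 1 := by
    have : nn Z hq hK * eF Z hq hK 4 1 * (nn Z hq hK)⁻¹ = eF Z hq hK 1 1 := Subtype.ext (by
      rw [nn_conj_root Z hq hK h2 (r := 14) (r' := 22) (by decide) (by decide +kernel)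
        (x_of_eF Z hq hK (i := 4) (r := 14) rfl rfl (one_Vf hq hK h2 4)),
        x_of_eF Z hq hK (i := 1) (r := 22) rfl rfl (one_Vf hq hK h2 1)])
    rw [← this]; group
  rw [← e]
  simpa using hnorm _ (inv_mem (nn_Pa Z hq hK h2)) _
    (h4 (FlF_mono (by decide) (FlF_mono (by decide) (eF_mem Z hq hK 1 1))))

theorem eF5_levi (t : F) : ((eF Z hq hK 5 t : ↥G₁) : ↥(chevD4.group F)) = levi1 Z hq hK (slU t) := by
  rw [(levi1_U Z hq hK t).1, eF_coe Z hq hK 5 (mem_Vf_big hq hK (by simp [small]) t),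
    Z.prodX_perm (L := [18, 13, 12]) (L' := [12, 13, 18]) (by decide) (list_ok Z _ (by decide))]
  refine Z.prodX_congr fun r hr => ?_
  obtain rfl | rfl | rfl : r = 12 ∨ r = 13 ∨ r = 18 := mem_three hr <;> simp [co, tri] <;> rfl

theorem Pa_perfect : Pa Z hq hK ≤ ⁅Pa Z hq hK, Pa Z hq hK⁆ := by
  set D := ⁅Pa Z hq hK, Pa Z hq hK⁆ with hD
  have hQ : FlF 5 ≤ D := (Q_le_comm Z hq hK h2).trans (Subgroup.commutator_mono le_rfl
    ((five_le_UF Z hq hK h2).trans (UF_le_Pa Z hq hK h2)))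
  have hX : ∀ t, eF Z hq hK 5 t ∈ D := fun t => by
    obtain ⟨s, u, e⟩ := moved Z hq hK h2 5 (by simp [small]) t
    exact e ▸ Subgroup.commutator_mem_commutator (hT_Pa Z hq hK h2 s)
      (UF_le_Pa Z hq hK h2 (eF_UF Z hq hK 5 u))
  have hnD : ∀ d ∈ D, nn Z hq hK * d * (nn Z hq hK)⁻¹ ∈ D := by
    intro d hd
    suffices D ≤ D.comap (MulAut.conj (nn Z hq hK)).toMonoidHom from this hd
    rw [hD, Subgroup.commutator_le]
    intro p hp y hy
    rw [Subgroup.mem_comap, MulEquiv.coe_toMonoidHom, MulAut.conj_apply]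
    rw [show nn Z hq hK * ⁅p, y⁆ * (nn Z hq hK)⁻¹ = ⁅nn Z hq hK * p * (nn Z hq hK)⁻¹,
      nn Z hq hK * y * (nn Z hq hK)⁻¹⁆ by simp only [commutatorElement_def]; group]
    exact Subgroup.commutator_mem_commutator
      (mul_mem (mul_mem (nn_Pa Z hq hK h2) hp) (inv_mem (nn_Pa Z hq hK h2)))
      (mul_mem (mul_mem (nn_Pa Z hq hK h2) hy) (inv_mem (nn_Pa Z hq hK h2)))
  have hL : ∀ g, levi1 Z hq hK g ∈ D.map (G₁).subtype := by
    intro g
    have P := ChevCore.pairRel_sl (F := F)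
    induction ChevCore.sl_generated g using Subgroup.closure_induction with
    | mem y hy =>
      rcases hy with ⟨t, rfl⟩ | ⟨t, rfl⟩
      · exact ⟨_, hX t, eF5_levi Z hq hK h2 t⟩
      · refine ⟨_, hnD _ (hX (-t)), ?_⟩
        rw [Subgroup.coe_subtype, Subgroup.coe_mul, Subgroup.coe_mul, Subgroup.coe_inv, eF5_levi Z hq hK h2,
          show ((nn Z hq hK : ↥G₁) : ↥(chevD4.group F)) = levi1 Z hq hK (pn slU slL 1) from
            ((isLevi1 Z hq hK).weyl).symm, ← map_inv, ← map_mul, ← map_mul, P.n_x, neg_neg]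
    | one => rw [map_one]; exact one_mem _
    | mul a b _ _ ha hb => rw [map_mul]; exact mul_mem ha hb
    | inv a _ ha => rw [map_inv]; exact inv_mem ha
  have hback : ∀ g : ↥G₁, (g : ↥(chevD4.group F)) ∈ D.map (G₁).subtype → g ∈ D := fun g hg => by
    obtain ⟨d, hd, e⟩ := hg
    rwa [← show d = g from Subtype.ext e]
  rw [Pa, Subgroup.closure_le]
  rintro g ((hg | ⟨s, rfl⟩) | rfl)
  · obtain ⟨t, ht, hr⟩ := FlF_dec Z hq hK 5 (g := g) hg
    simpa using mul_mem (hX t) (hQ hr)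
  · refine hback _ ?_
    set p := (Equiv.ofBijective _ (wmap_bij hq hK)).symm s
    have hb : p.2.1 = 1 := by
      refine Units.ext (((small_cases hq hK h2 (i := 0) (Or.inl rfl)) ((mem_Vf_small hq hK (Or.inl rfl)).2
        ?_)).resolve_left p.2.1.ne_zero)
      rw [← Units.val_pow_eq_pow_val, p.2.2]
    show tor MT K (cvec q p.1 p.2.1) ∈ _
    rw [hb, ← levi1_torus Z hq hK p.1]
    exact hL _
  · refine hback _ ?_
    rw [show ((nn Z hq hK : ↥G₁) : ↥(chevD4.group F)) = levi1 Z hq hK (pn slU slL 1) from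
      ((isLevi1 Z hq hK).weyl).symm]
    exact hL _

end Cfsg.Agent.Twisted.TypeD4
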