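import Cfsg.Agent.KnownSimple.Multiplier.D4.Two

/-!
The condition at the prime two for the Schur multiplier of `³D₄(2)` (helper53).
-/

set_option autoImplicit false
set_option linter.unusedSectionVars false

namespace Cfsg.Agent.Twisted.TypeD4

open ChevGroup ChevIsogeny Cfsg.Lie
open Cfsg.Agent.KnownSimple
open scoped commutatorElement

universe u w

section general

variable {G : Type u} [Group G]

theorem closure_comm {S : Set G} {N : Subgroup G}
    (hn : ∀ g ∈ Subgroup.closure S, ∀ n ∈ N, g * n * g⁻¹ ∈ N) (h : ∀ a ∈ S, ∀ b ∈ S, ⁅a, b⁆ ∈ N) :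
    ∀ a ∈ Subgroup.closure S, ∀ b ∈ Subgroup.closure S, ⁅a, b⁆ ∈ N := by
  have h1 : ∀ a ∈ S, ∀ b ∈ Subgroup.closure S, ⁅a, b⁆ ∈ N := by
    intro a ha b hb
    induction hb using Subgroup.closure_induction with
    | mem b hb => exact h a ha b hb
    | one => simp
    | mul x y hx _ ihx ihy =>
      have := mul_mem ihx (hn x hx _ ihy)
      simpa [commutatorElement_def, mul_assoc] using this
    | inv x hx ihx =>
      have := hn x⁻¹ (inv_mem hx) _ (inv_mem ihx)
      simpa [commutatorElement_def, mul_assoc] using this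
  intro a ha b hb
  induction ha using Subgroup.closure_induction with
  | mem a ha => exact h1 a ha b hb
  | one => simp
  | mul x y hx _ ihx ihy =>
    have := mul_mem (hn x hx _ ihy) ihx
    simpa [commutatorElement_def, mul_assoc] using this
  | inv x hx ihx =>
    have := hn x⁻¹ (inv_mem hx) _ (inv_mem ihx)
    simpa [commutatorElement_def, mul_assoc] using this

theorem finite_list_closure [Finite G] {c : G} (hc : c * c = 1) :
    ∀ l : List G, (∀ a ∈ l, a * a = 1) → (∀ a ∈ c :: l, ∀ b ∈ c :: l, ⁅a, b⁆ ∈ Subgroup.zpowers c) →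
      Nat.card ↥(Subgroup.closure {x | x ∈ c :: l}) ≤ 2 ^ (l.length + 1) := by
  intro l
  induction l with
  | nil =>
    intro _ _
    have e : Subgroup.closure {x | x ∈ [c]} = Subgroup.zpowers c := by
      rw [Subgroup.zpowers_eq_closure]; simp
    rw [e, Nat.card_zpowers]
    exact Nat.le_of_dvd (by norm_num) (orderOf_dvd_of_pow_eq_one (by simp [pow_two, hc]))
  | cons y l ih =>
    intro hsq hcomm
    set H := Subgroup.closure {x | x ∈ c :: l}
    have hH := ih (fun a ha => hsq a (List.mem_cons_of_mem _ ha)) (fun a ha b hb => hcomm a (by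
      simp only [List.mem_cons] at ha ⊢; tauto) b (by simp only [List.mem_cons] at hb ⊢; tauto))
    have hcH : Subgroup.zpowers c ≤ H :=
      Subgroup.zpowers_le.2 (Subgroup.subset_closure (List.mem_cons_self ..))
    have hy : y * y = 1 := hsq y (List.mem_cons_self ..)
    have hyi : y⁻¹ = y := inv_eq_of_mul_eq_one_right hy
    have hnorm : ∀ x ∈ H, y * x * y⁻¹ ∈ H := by
      intro x hx
      induction hx using Subgroup.closure_induction with
      | mem x hx =>
        have h1 := hcH (hcomm y (by simp) x (by simp only [Set.mem_ofPred_eq, List.mem_cons] at hx ⊢; tauto))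
        have := mul_mem h1 (Subgroup.subset_closure (k := {x | x ∈ c :: l}) hx)
        simpa [commutatorElement_def, mul_assoc] using this
      | one => simp
      | mul a b _ _ ha hb => simpa [mul_assoc] using mul_mem ha hb
      | inv a _ ha => simpa [mul_assoc] using inv_mem ha
    let T : Subgroup G :=
      { carrier := {g | g ∈ H ∨ y * g ∈ H}
        one_mem' := Or.inl (one_mem H)
        mul_mem' := by
          rintro a b (ha | ha) (hb | hb)
          · exact Or.inl (mul_mem ha hb)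
          · refine Or.inr ?_
            have := mul_mem (hnorm a ha) hb
            simpa [mul_assoc] using this
          · exact Or.inr (by simpa [mul_assoc] using mul_mem ha hb)
          · refine Or.inl ?_
            have := mul_mem (hnorm _ ha) hb
            simpa [← mul_assoc, hy] using this
        inv_mem' := by
          rintro a (ha | ha)
          · exact Or.inl (inv_mem ha)
          · refine Or.inr ?_
            have := hnorm _ (inv_mem ha)
            simpa [mul_assoc, hyi, hy] using this }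
    have hle : Subgroup.closure {x | x ∈ c :: y :: l} ≤ T := by
      refine (Subgroup.closure_le _).2 fun x hx => ?_
      simp only [Set.mem_ofPred_eq, List.mem_cons] at hx
      rcases hx with rfl | rfl | hx
      · exact Or.inl (Subgroup.subset_closure (List.mem_cons_self ..))
      · exact Or.inr (by rw [hy]; exact one_mem H)
      · exact Or.inl (Subgroup.subset_closure (List.mem_cons_of_mem _ hx))
    have hT : Nat.card ↥T ≤ 2 * Nat.card ↥H := by
      have hs : Function.Surjective (fun p : Bool × ↥H => (⟨if p.1 then y * p.2.1 else p.2.1, by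
          cases p.1
          · exact Or.inl p.2.2
          · refine Or.inr ?_; simp [← mul_assoc, hy]⟩ : ↥T)) := by
        rintro ⟨g, hg | hg⟩
        · exact ⟨(false, ⟨g, hg⟩), rfl⟩
        · exact ⟨(true, ⟨y * g, hg⟩), Subtype.ext (by simp [← mul_assoc, hy])⟩
      have := Nat.card_le_card_of_surjective _ hs
      simpa [Nat.card_prod] using this
    refine (Nat.card_le_card_of_injective _ (Subgroup.inclusion_injective hle)).trans (hT.trans ?_)
    rw [List.length_cons, pow_succ' 2 (l.length + 1)]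
    exact Nat.mul_le_mul_left 2 hH

end general

variable {F : Type w} [Field F] [Fintype F] {q : ℕ} {K : Rels chevD4 F}
  (Z : Frame (T := MT) K PP q fd)
  (hq : IsPrimePow q) (hK : Fintype.card F = q ^ 3) (h2 : q = 2)

set_option quotPrecheck false in
local notation "G₁" => genG MT K (d4Words F q)

include Z hq hK h2

/-- a conjugate of the middle root element -/
noncomputable def y14 (t : F) : ↥G₁ :=
  eF Z hq hK 5 t * eF Z hq hK 4 1 * (eF Z hq hK 5 t)⁻¹

theorem eF5_mul (s t : F) : eF Z hq hK 5 s * eF Z hq hK 5 t = eF Z hq hK 5 (s + t) :=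
  (eF_add Z hq hK 5 (mem_Vf_big hq hK (by simp [small]) s) (mem_Vf_big hq hK (by simp [small]) t)).symm

theorem orb_conj (s t : F) :
    eF Z hq hK 5 s * y14 Z hq hK t * (eF Z hq hK 5 s)⁻¹ = y14 Z hq hK (s + t) := by
  rw [y14, y14, ← eF5_mul Z hq hK h2 s t]; group

theorem hT_fix (i : Fin 6) (hi : small i) (s : TPar F q) :
    hT Z hq hK s * eF Z hq hK i 1 * (hT Z hq hK s)⁻¹ = eF Z hq hK i 1 := by
  have hm := wgt_mul_mem hq hK i s (one_Vf hq hK h2 i)
  rw [hT_conj Z hq hK i s (one_Vf hq hK h2 i) hm, mul_one]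
  rcases small_cases hq hK h2 hi (by simpa using hm) with e | e
  · exact absurd e (Units.ne_zero _)
  · rw [e]

theorem orb_hT (s : TPar F q) (t : F) : hT Z hq hK s * y14 Z hq hK t * (hT Z hq hK s)⁻¹ =
    y14 Z hq hK ((wgt q 5 s.1 s.2.1 : F) * t) := by
  have hm : ∀ x : F, x ∈ Vf hq hK 5 := mem_Vf_big hq hK (by simp [small])
  rw [y14, y14, ← hT_conj Z hq hK 5 s (hm t) (hm _)]
  conv_rhs => rw [← hT_fix Z hq hK h2 4 (Or.inr (Or.inr rfl)) s]
  group

theorem orb_mem (t : F) : y14 Z hq hK t ∈ (FlF 5 : Subgroup ↥G₁) :=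
  Pa_normal Z hq hK h2 (UF_le_Pa Z hq hK h2 (eF_UF Z hq hK 5 t)) (eF_mem Z hq hK 4 1)

theorem orb_zero : y14 Z hq hK 0 = eF Z hq hK 4 1 := by
  rw [y14, eF_zero Z hq hK]; simp

theorem Q_gen : (FlF 5 : Subgroup ↥G₁) ≤
    Subgroup.closure (insert (eF Z hq hK 0 1) (Set.range (y14 Z hq hK))) := by
  set O := Subgroup.closure (insert (eF Z hq hK 0 1) (Set.range (y14 Z hq hK))) with hO
  have hconj : ∀ g : ↥G₁, g * eF Z hq hK 0 1 * g⁻¹ = eF Z hq hK 0 1 →
      (∀ t, ∃ t', g * y14 Z hq hK t * g⁻¹ = y14 Z hq hK t') → ∀ o ∈ O, g * o * g⁻¹ ∈ O := by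
    intro g hz hy o ho
    rw [hO] at ho ⊢
    induction ho using Subgroup.closure_induction with
    | mem x hx =>
      rcases hx with rfl | ⟨t, rfl⟩
      · rw [hz]; exact Subgroup.subset_closure (Set.mem_insert _ _)
      · obtain ⟨t', e⟩ := hy t
        rw [e]; exact Subgroup.subset_closure (Set.mem_insert_of_mem _ ⟨t', rfl⟩)
    | one => simp
    | mul a b _ _ ha hb => simpa [mul_assoc] using mul_mem ha hb
    | inv a _ ha => simpa [mul_assoc] using inv_mem ha
  refine span Z hq hK h2 O (fun s o ho => hconj _ (Pa_fix Z hq hK h2 (hT_Pa Z hq hK h2 s))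
    (fun t => ⟨_, orb_hT Z hq hK h2 s t⟩) o ho) (fun t o ho => ?_)
    (Subgroup.subset_closure (Set.mem_insert _ _)) ?_
  · rw [commutatorElement_def]
    exact mul_mem (hconj _ (Pa_fix Z hq hK h2 (UF_le_Pa Z hq hK h2 (eF_UF Z hq hK 5 t)))
      (fun u => ⟨_, orb_conj Z hq hK h2 t u⟩) o ho) (inv_mem ho)
  · exact Subgroup.subset_closure (Set.mem_insert_of_mem _ ⟨0, orb_zero Z hq hK h2⟩)

theorem comm14 {g : ↥(chevD4.group F)} (hg : g ∈ Sg (MT.rel K) (· ∈ lev 4)) :
    ⁅(MT.rel K).x 14 1, g⁆ ∈ Sg (MT.rel K) (· ∈ lev 1) := by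
  have hb : (lev 4).all (fun s => intoB MT PP 14 s (lev 1)) = true := by decide +kernel
  simp only [List.all_eq_true] at hb
  have hU : ∀ s ∈ lev 4, (MT.S).pos s := fun s hs =>
    mem_pl.1 ((show ∀ s ∈ lev 4, s ∈ MT.posList by decide +kernel) s hs)
  have hmem : ∀ s ∈ lev 4, ∀ u : F, ⁅(MT.rel K).x 14 1, (MT.rel K).x s u⁆ ∈ Sg (MT.rel K) (· ∈ lev 1) := by
    intro s hs u
    have h := Z.conj_mem_of_into (hb s hs) 1 u
    have h' := conj_low Z (i := 1) (u := (MT.rel K).x s u)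
      (x_mem_Sg (MT.rel K) (T := (MT.S).pos) (hU s hs) u) h
    rw [(MT.rel K).x_neg] at h'
    simpa [commutatorElement_def, mul_assoc] using h'
  induction hg using Subgroup.closure_induction'' with
  | mem y hy => obtain ⟨s, u, hs, rfl⟩ := hy; exact hmem s hs u
  | inv_mem y hy =>
    obtain ⟨s, u, hs, rfl⟩ := hy
    rw [← (MT.rel K).x_neg]
    exact hmem s hs _
  | one => simp
  | mul a b ha _ iha ihb =>
    have := mul_mem iha (conj_low Z (i := 1) (u := a) (Sg_mono (MT.rel K) (T := (· ∈ lev 4)) hU ha) ihb)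
    simpa [commutatorElement_def, mul_assoc] using this

theorem orb_comm (s t : F) : ⁅y14 Z hq hK s, y14 Z hq hK t⁆ ∈ (FlF 1 : Subgroup ↥G₁) := by
  have hb : ∀ u, ⁅eF Z hq hK 4 1, y14 Z hq hK u⁆ ∈ (FlF 1 : Subgroup ↥G₁) := by
    intro u
    have hd : ⁅eF Z hq hK 5 u, eF Z hq hK 4 1⁆ ∈ (FlF 4 : Subgroup ↥G₁) :=
      comm_mem' Z hq hK 4 (eF_UF Z hq hK 5 u) (eF_mem Z hq hK 4 1)
    have h1 : ⁅eF Z hq hK 4 1, ⁅eF Z hq hK 5 u, eF Z hq hK 4 1⁆⁆ ∈ (FlF 1 : Subgroup ↥G₁) := by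
      refine Subgroup.mem_subgroupOf.2 ?_
      rw [show ((⁅eF Z hq hK 4 1, ⁅eF Z hq hK 5 u, eF Z hq hK 4 1⁆⁆ : ↥G₁) : ↥(chevD4.group F)) =
        ⁅(eF Z hq hK 4 1 : ↥(chevD4.group F)),
          ((⁅eF Z hq hK 5 u, eF Z hq hK 4 1⁆ : ↥G₁) : ↥(chevD4.group F))⁆ from rfl,
        x_of_eF Z hq hK (i := 4) (r := 14) rfl rfl (one_Vf hq hK h2 4)]
      exact comm14 Z hq hK h2 (Subgroup.mem_subgroupOf.1 hd)
    have e : y14 Z hq hK u = ⁅eF Z hq hK 5 u, eF Z hq hK 4 1⁆ * eF Z hq hK 4 1 := by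
      rw [y14, commutatorElement_def]; group
    rw [e]
    have e2 : ∀ a d : ↥G₁, ⁅a, d * a⁆ = ⁅a, d⁆ := fun a d => by simp only [commutatorElement_def]; group
    rw [e2]
    exact h1
  have e : ⁅y14 Z hq hK s, y14 Z hq hK t⁆ = eF Z hq hK 5 s * ⁅eF Z hq hK 4 1, y14 Z hq hK (t - s)⁆ *
      (eF Z hq hK 5 s)⁻¹ := by
    conv_lhs => rw [show t = s + (t - s) by ring, ← orb_conj Z hq hK h2 s (t - s)]
    rw [y14]
    simp only [commutatorElement_def]
    group
  rw [e]
  exact conj_Fl Z hq hK 1 (eF_UF Z hq hK 5 s) (hb _)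

theorem Fl1_cases {g : ↥G₁} (hg : g ∈ (FlF 1 : Subgroup ↥G₁)) : g = 1 ∨ g = eF Z hq hK 0 1 := by
  obtain ⟨t, ht, hr⟩ := FlF_dec Z hq hK 0 (g := g) hg
  rw [show ((0 : Fin 6).val) = 0 from rfl, FlF_zero, Subgroup.mem_bot, inv_mul_eq_one] at hr
  rcases small_cases hq hK h2 (Or.inl rfl) ht with rfl | rfl
  · exact Or.inl (by rw [← hr, eF_zero Z hq hK])
  · exact Or.inr hr.symm

theorem z_comm : eF Z hq hK 0 1 = ⁅eF Z hq hK 4 1, eF Z hq hK 1 1⁆ := by
  refine Subtype.ext ?_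
  rw [show ((⁅eF Z hq hK 4 1, eF Z hq hK 1 1⁆ : ↥G₁) : ↥(chevD4.group F)) =
    ⁅(eF Z hq hK 4 1 : ↥(chevD4.group F)), (eF Z hq hK 1 1 : ↥(chevD4.group F))⁆ from rfl,
    x_of_eF Z hq hK (i := 4) (r := 14) rfl rfl (one_Vf hq hK h2 4),
    x_of_eF Z hq hK (i := 1) (r := 22) rfl rfl (one_Vf hq hK h2 1),
    x_of_eF Z hq hK (i := 0) (r := 23) rfl rfl (one_Vf hq hK h2 0),
    comm_pair Z (T := [23]) (by decide) (show pairB [23] 14 22 = true by decide +kernel)]
  simp [prodX, show coefT 14 22 23 = 1 by decide +kernel]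

theorem card_Q : 512 ≤ Nat.card ↥(FlF 5 : Subgroup ↥G₁) := by
  have hU : Nat.card ↥(UF : Subgroup ↥G₁) = 4096 := by rw [card_UF Z hq hK, h2]; norm_num
  have hF : Nat.card F = 8 := by rw [Nat.card_eq_fintype_card, hK, h2]; norm_num
  have hs : Function.Surjective (fun p : F × ↥(FlF 5 : Subgroup ↥G₁) =>
      (⟨eF Z hq hK 5 p.1 * p.2.1, mul_mem (eF_UF Z hq hK 5 p.1) (five_le_UF Z hq hK h2 p.2.2)⟩ :
        ↥(UF : Subgroup ↥G₁))) := by
    rintro ⟨g, hg⟩
    obtain ⟨t, -, hr⟩ := FlF_dec Z hq hK 5 (g := g) hg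
    exact ⟨(t, ⟨_, hr⟩), Subtype.ext (mul_inv_cancel_left _ _)⟩
  have := Nat.card_le_card_of_surjective _ hs
  rw [Nat.card_prod, hU, hF] at this
  omega

variable {Γ : Type u} [Group Γ] [Finite Γ]

theorem local_two (σ : Γ →* ↥G₁) (hσ : Function.Surjective σ) (hc : σ.ker ≤ Subgroup.center Γ) :
    σ.ker ⊓ ⁅(UF : Subgroup ↥G₁).comap σ, (UF : Subgroup ↥G₁).comap σ⁆ = ⊥ := by
  classical
  set e0 := eF Z hq hK 0 1 with he0
  set P := Pa Z hq hK with hP
  have hkc : ∀ a ∈ σ.ker, ∀ w : Γ, Commute w a := fun a ha w => Subgroup.mem_center_iff.1 (hc ha) w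
  have hsame : ∀ v v' : Γ, σ v = σ v' → ∃ a ∈ σ.ker, v' = v * a := fun v v' e =>
    ⟨v⁻¹ * v', by rw [MonoidHom.mem_ker, map_mul, map_inv, e, inv_mul_cancel], by group⟩
  have hwd : ∀ {v w v' w' : Γ}, σ v = σ v' → σ w = σ w' → ⁅v', w'⁆ = ⁅v, w⁆ := by
    intro v w v' w' hv hw
    obtain ⟨a, ha, rfl⟩ := hsame v v' hv
    obtain ⟨b, hb, rfl⟩ := hsame w w' hw
    exact Cfsg.Agent.Schur.commutatorElement_mul_central (hc ha) (hc hb) v w
  obtain ⟨zt, hzt⟩ := hσ e0
  -- lifts of the centre of `Q` commute with lifts of `P`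
  have hzc : ∀ w : Γ, σ w ∈ P → Commute zt w := by
    let W' : Subgroup ↥G₁ := ((Subgroup.centralizer {zt}) ⊓ P.comap σ).map σ
    have hD : ⁅P, P⁆ ≤ W' := by
      rw [Subgroup.commutator_le]
      intro p hp y hy
      obtain ⟨p, rfl⟩ := hσ p
      obtain ⟨y, rfl⟩ := hσ y
      refine ⟨⁅p, y⁆, Subgroup.mem_inf.2 ⟨?_, ?_⟩, map_commutatorElement σ p y⟩
      · have act : ∀ g : Γ, σ g ∈ P → ∃ a ∈ σ.ker, g * zt * g⁻¹ = zt * a := fun g hg => hsame _ _ (by
          rw [map_mul, map_mul, map_inv, hzt, he0, Pa_fix Z hq hK h2 hg])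
        obtain ⟨a, ha, ea⟩ := act p hp
        obtain ⟨b, hb, eb⟩ := act y hy
        rw [Subgroup.mem_centralizer_singleton_iff]
        have key : ⁅p, y⁆ * zt * ⁅p, y⁆⁻¹ = zt := by
          have e1 : y⁻¹ * zt * y = zt * b⁻¹ := by
            have : zt = y⁻¹ * zt * y * b := by
              calc zt = y⁻¹ * (y * zt * y⁻¹) * y := by group
                _ = y⁻¹ * zt * (b * y) := by rw [eb]; group
                _ = _ := by rw [← (hkc b hb y).eq]; group
            conv_rhs => rw [this]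
            group
          have e2 : p⁻¹ * zt * p = zt * a⁻¹ := by
            have : zt = p⁻¹ * zt * p * a := by
              calc zt = p⁻¹ * (p * zt * p⁻¹) * p := by group
                _ = p⁻¹ * zt * (a * p) := by rw [ea]; group
                _ = _ := by rw [← (hkc a ha p).eq]; group
            conv_rhs => rw [this]
            group
          have cb := fun x => (hkc b⁻¹ (inv_mem hb) x).eq
          have ca := fun x => (hkc a⁻¹ (inv_mem ha) x).eq
          calc ⁅p, y⁆ * zt * ⁅p, y⁆⁻¹ = p * (y * (p⁻¹ * (y⁻¹ * zt * y) * p) * y⁻¹) * p⁻¹ := by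
                simp only [commutatorElement_def]; group
            _ = p * (y * (p⁻¹ * zt * p * b⁻¹) * y⁻¹) * p⁻¹ := by
                rw [e1]
                congr 4
                calc p⁻¹ * (zt * b⁻¹) * p = p⁻¹ * zt * (b⁻¹ * p) := by group
                  _ = _ := by rw [← cb p]; group
            _ = p * (y * zt * y⁻¹ * (a⁻¹ * b⁻¹)) * p⁻¹ := by
                rw [e2]
                congr 2
                calc y * (zt * a⁻¹ * b⁻¹) * y⁻¹ = y * zt * ((a⁻¹ * b⁻¹) * y⁻¹) := by group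
                  _ = _ := by
                    rw [← (hkc _ (mul_mem (inv_mem ha) (inv_mem hb)) y⁻¹).eq]; group
            _ = p * zt * p⁻¹ * (b * (a⁻¹ * b⁻¹)) := by
                rw [eb]
                calc p * (zt * b * (a⁻¹ * b⁻¹)) * p⁻¹ = p * zt * ((b * (a⁻¹ * b⁻¹)) * p⁻¹) := by group
                  _ = _ := by
                    rw [← (hkc _ (mul_mem hb (mul_mem (inv_mem ha) (inv_mem hb))) p⁻¹).eq]; group
            _ = zt := by
                rw [ea, show b * (a⁻¹ * b⁻¹) = a⁻¹ by rw [cb a⁻¹, mul_inv_cancel_left]]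
                group
        exact mul_inv_eq_iff_eq_mul.1 key
      · rw [Subgroup.mem_comap, map_commutatorElement, commutatorElement_def]
        exact mul_mem (mul_mem (mul_mem hp hy) (inv_mem hp)) (inv_mem hy)
    intro w hw
    obtain ⟨w', hw', e⟩ := hD (Pa_perfect Z hq hK h2 hw)
    obtain ⟨a, ha, rfl⟩ := hsame w' w e
    exact Commute.mul_right (Subgroup.mem_centralizer_singleton_iff.1 (Subgroup.mem_inf.1 hw').1).symm
      (hkc a ha zt)
  have hcen : ∀ v w : Γ, σ v ∈ (FlF 1 : Subgroup ↥G₁) → σ w ∈ P → Commute v w := by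
    intro v w hv hw
    rcases Fl1_cases Z hq hK h2 hv with e | e
    · exact (hkc v e w).symm
    · obtain ⟨a, ha, rfl⟩ := hsame zt v (by rw [e, hzt])
      exact (hzc w hw).mul_left (hkc a ha w).symm
  have hQP : (FlF 5 : Subgroup ↥G₁) ≤ P := (five_le_UF Z hq hK h2).trans (UF_le_Pa Z hq hK h2)
  let g : F → Γ := fun t => Function.surjInv hσ (eF Z hq hK 5 t)
  have hg : ∀ t, σ (g t) = eF Z hq hK 5 t := fun t => Function.surjInv_eq hσ _
  obtain ⟨y0, hy0⟩ := hσ (eF Z hq hK 4 1)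
  let yt : F → Γ := fun t => g t * y0 * (g t)⁻¹
  have hyt : ∀ t, σ (yt t) = y14 Z hq hK t := fun t => by
    simp only [yt, map_mul, map_inv, hg, hy0]; rfl
  have hgPa : ∀ t, σ (g t) ∈ P := fun t => hg t ▸ UF_le_Pa Z hq hK h2 (eF_UF Z hq hK 5 t)
  have hyP : ∀ t, σ (yt t) ∈ P := fun t => hyt t ▸ hQP (orb_mem Z hq hK h2 t)
  have hyconj : ∀ (y : Γ) s t, g s * (g t * y * (g t)⁻¹) * (g s)⁻¹ = g (s + t) * y * (g (s + t))⁻¹ := by
    intro y s t
    obtain ⟨a, ha, e⟩ := hsame (g (s + t)) (g s * g t) (by rw [map_mul, hg, hg, hg, eF5_mul Z hq hK h2])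
    calc g s * (g t * y * (g t)⁻¹) * (g s)⁻¹ = (g s * g t) * y * (g s * g t)⁻¹ := by group
      _ = g (s + t) * (a * y) * (g (s + t) * a)⁻¹ := by rw [e]; group
      _ = _ := by rw [← (hkc a ha y).eq]; group
  set c := ⁅y0, yt 1⁆ with hcdef
  have hσc : σ c ∈ (FlF 1 : Subgroup ↥G₁) := by
    rw [hcdef, map_commutatorElement, hy0, hyt, ← orb_zero Z hq hK h2]
    exact orb_comm Z hq hK h2 0 1
  have hcP : ∀ w, σ w ∈ P → Commute c w := fun w hw => hcen c w hσc hw
  have hy0P : σ y0 ∈ P := hy0 ▸ hQP (eF_mem Z hq hK 4 1)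
  have hconst : ∀ u : F, ⁅y0, yt u⁆ ∈ Subgroup.zpowers c := by
    intro u
    by_cases hu : u = 0
    · subst hu
      rw [hwd (v := y0) (w := y0) rfl (by rw [hyt, orb_zero Z hq hK h2, hy0]), commutatorElement_self]
      exact one_mem _
    · obtain ⟨s, hs⟩ := wgt_onto hq hK (i := 5) (by simp [small]) (Units.mk0 u hu)
      obtain ⟨h, hh⟩ := hσ (hT Z hq hK s)
      have h1 : σ (h * y0 * h⁻¹) = σ y0 := by
        rw [map_mul, map_mul, map_inv, hh, hy0, hT_fix Z hq hK h2 4 (Or.inr (Or.inr rfl)) s]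
      have h1' : σ (h * yt 1 * h⁻¹) = σ (yt u) := by
        rw [map_mul, map_mul, map_inv, hh, hyt, hyt, orb_hT Z hq hK h2 s 1, mul_one, hs, Units.val_mk0]
      rw [hwd h1 h1', show ⁅h * y0 * h⁻¹, h * yt 1 * h⁻¹⁆ = h * c * h⁻¹ by
        rw [hcdef]; simp only [commutatorElement_def]; group,
        ← (hcP h (hh ▸ hT_Pa Z hq hK h2 s)).eq, mul_inv_cancel_right]
      exact Subgroup.mem_zpowers c
  have hyy : ∀ s t, ⁅yt s, yt t⁆ ∈ Subgroup.zpowers c := by
    intro s t
    have e : ⁅yt s, yt t⁆ = g s * ⁅y0, yt (t - s)⁆ * (g s)⁻¹ := by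
      have h1 := hyconj y0 s (t - s)
      rw [add_sub_cancel] at h1
      show ⁅g s * y0 * (g s)⁻¹, g t * y0 * (g t)⁻¹⁆ = g s * ⁅y0, g (t - s) * y0 * (g (t - s))⁻¹⁆ * (g s)⁻¹
      rw [← h1]
      simp only [commutatorElement_def]; group
    rw [e]
    obtain ⟨k, hk⟩ := hconst (t - s)
    rw [← hk, ← ((hcP (g s) (hgPa s)).zpow_left k).eq, mul_inv_cancel_right]
    exact ⟨k, rfl⟩
  have hy0sq : y0 * y0 ∈ σ.ker := by
    rw [MonoidHom.mem_ker, map_mul, hy0, ← eF_add Z hq hK 4 (one_Vf hq hK h2 4) (one_Vf hq hK h2 4),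
      one_add_one_eq_two, two_eq hq hK h2, eF_zero Z hq hK]
  have hcsq : c * c = 1 := by
    have h1 : ⁅y0 * y0, yt 1⁆ = c * c := by
      have e : ⁅y0 * y0, yt 1⁆ = y0 * c * y0⁻¹ * c := by
        rw [hcdef]; simp only [commutatorElement_def]; group
      rw [e, ← (hcP y0 hy0P).eq, mul_inv_cancel_right]
    rw [← h1, commutatorElement_eq_one_iff_mul_comm]
    exact (hkc _ hy0sq (yt 1)).eq.symm
  have hσc1 : σ c ≠ 1 := by
    intro e1
    have hall : ∀ a ∈ Subgroup.closure (insert e0 (Set.range (y14 Z hq hK))),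
        ∀ b ∈ Subgroup.closure (insert e0 (Set.range (y14 Z hq hK))), ⁅a, b⁆ ∈ (⊥ : Subgroup ↥G₁) := by
      refine closure_comm (fun x _ n hn => by rw [Subgroup.mem_bot] at hn ⊢; simp [hn]) ?_
      have hz : ∀ x ∈ P, ⁅e0, x⁆ = 1 := fun x hx => by
        have := Pa_fix Z hq hK h2 hx
        rw [commutatorElement_eq_one_iff_mul_comm]
        exact (mul_inv_eq_iff_eq_mul.1 this).symm
      have hy : ∀ s t, ⁅y14 Z hq hK s, y14 Z hq hK t⁆ = 1 := fun s t => by
        obtain ⟨k, hk⟩ := hyy s t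
        rw [← hyt, ← hyt, ← map_commutatorElement, ← hk, map_zpow, e1, one_zpow]
      rintro a (rfl | ⟨s, rfl⟩) b (rfl | ⟨t, rfl⟩) <;> rw [Subgroup.mem_bot]
      · exact commutatorElement_self _
      · exact hz _ (hQP (orb_mem Z hq hK h2 t))
      · rw [← commutatorElement_inv, hz _ (hQP (orb_mem Z hq hK h2 s)), inv_one]
      · exact hy s t
    have h14 := Q_gen Z hq hK h2 (eF_mem Z hq hK 4 1)
    have h22 := Q_gen Z hq hK h2 (FlF_mono (by decide) (FlF_mono (by decide) (FlF_mono (by decide)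
      (eF_mem Z hq hK 1 1))))
    have := hall _ h14 _ h22
    rw [← z_comm Z hq hK h2, Subgroup.mem_bot] at this
    exact eF_not_mem Z hq hK 0 (one_Vf hq hK h2 0) one_ne_zero (by rw [this]; exact one_mem _)
  have hσce : σ c = e0 := (Fl1_cases Z hq hK h2 hσc).resolve_left hσc1
  set N := Subgroup.zpowers c with hN
  have hN2 : ∀ n ∈ N, n = 1 ∨ n = c := by
    rintro n ⟨k, rfl⟩
    have h2c : c ^ (2 : ℤ) = 1 := by rw [zpow_two, hcsq]
    rcases Int.even_or_odd' k with ⟨m, rfl | rfl⟩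
    · exact Or.inl (by show c ^ _ = 1; rw [zpow_mul, h2c, one_zpow])
    · exact Or.inr (by show c ^ _ = c; rw [zpow_add, zpow_mul, h2c, one_zpow, one_mul, zpow_one])
  have hNk : ∀ n ∈ N, σ n = 1 → n = 1 := fun n hn h => (hN2 n hn).resolve_right fun e => hσc1 (e ▸ h)
  have hNP : ∀ w, σ w ∈ P → ∀ n ∈ N, Commute n w := fun w hw n hn => by
    rcases hN2 n hn with rfl | rfl
    · exact Commute.one_left w
    · exact hcP w hw
  -- the commutators of the preimage of `Q`
  let S : Set Γ := (σ.ker : Set Γ) ∪ {zt} ∪ Set.range yt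
  have hSP : ∀ w ∈ Subgroup.closure S, σ w ∈ P := by
    intro w hw
    have : Subgroup.closure S ≤ P.comap σ := (Subgroup.closure_le _).2 (by
      rintro x ((hx | rfl) | ⟨t, rfl⟩)
      · show σ x ∈ P; rw [show σ x = 1 from hx]; exact one_mem _
      · show σ x ∈ P; rw [hzt]; exact UF_le_Pa Z hq hK h2 (eF_UF Z hq hK 0 1)
      · exact hyP t)
    exact this hw
  have hgenS : ∀ w : Γ, σ w ∈ (FlF 5 : Subgroup ↥G₁) → w ∈ Subgroup.closure S := by
    intro w hw
    have h1 : (FlF 5 : Subgroup ↥G₁) ≤ (Subgroup.closure S).map σ := (Q_gen Z hq hK h2).trans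
      ((Subgroup.closure_le _).2 (by
        rintro x (rfl | ⟨t, rfl⟩)
        · exact ⟨zt, Subgroup.subset_closure (Or.inl (Or.inr rfl)), hzt⟩
        · exact ⟨yt t, Subgroup.subset_closure (Or.inr ⟨t, rfl⟩), hyt t⟩))
    obtain ⟨v, hv, e⟩ := h1 hw
    obtain ⟨a, ha, rfl⟩ := hsame v w e
    exact mul_mem hv (Subgroup.subset_closure (Or.inl (Or.inl ha)))
  have hQQ : ∀ v w : Γ, σ v ∈ (FlF 5 : Subgroup ↥G₁) → σ w ∈ (FlF 5 : Subgroup ↥G₁) → ⁅v, w⁆ ∈ N := by
    intro v w hv hw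
    refine closure_comm (S := S) (fun x hx n hn => ?_) ?_ v (hgenS v hv) w (hgenS w hw)
    · rw [← (hNP x (hSP x hx) n hn).eq, mul_inv_cancel_right]; exact hn
    · have hk1 : ∀ a ∈ σ.ker, ∀ b : Γ, ⁅a, b⁆ = 1 ∧ ⁅b, a⁆ = 1 := fun a ha b =>
        ⟨commutatorElement_eq_one_iff_mul_comm.2 (hkc a ha b).eq.symm,
          commutatorElement_eq_one_iff_mul_comm.2 (hkc a ha b).eq⟩
      have hz1 : ∀ t, ⁅zt, yt t⁆ = 1 ∧ ⁅yt t, zt⁆ = 1 := fun t =>
        ⟨commutatorElement_eq_one_iff_mul_comm.2 (hzc _ (hyP t)).eq,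
          commutatorElement_eq_one_iff_mul_comm.2 (hzc _ (hyP t)).eq.symm⟩
      rintro a ((ha | rfl) | ⟨s, rfl⟩) b ((hb | rfl) | ⟨t, rfl⟩)
      all_goals first
        | (rw [(hk1 a ha _).1]; exact one_mem _)
        | (rw [(hk1 b hb _).2]; exact one_mem _)
        | (rw [commutatorElement_self]; exact one_mem _)
        | (rw [(hz1 t).1]; exact one_mem _)
        | (rw [(hz1 s).2]; exact one_mem _)
        | exact hyy s t
  -- squares
  have hsqQ : ∀ x ∈ (FlF 5 : Subgroup ↥G₁), x * x ∈ (FlF 1 : Subgroup ↥G₁) := by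
    intro x hx
    have hQ1 : ∀ a ∈ (FlF 5 : Subgroup ↥G₁), ∀ b ∈ (FlF 5 : Subgroup ↥G₁), ⁅a, b⁆ ∈ (FlF 1 : Subgroup ↥G₁) := by
      intro a ha b hb
      obtain ⟨v, rfl⟩ := hσ a
      obtain ⟨w, rfl⟩ := hσ b
      rcases hN2 _ (hQQ v w ha hb) with e | e <;> rw [← map_commutatorElement, e]
      · rw [map_one]; exact one_mem _
      · exact hσc
    have hO : insert e0 (Set.range (y14 Z hq hK)) ⊆ ((FlF 5 : Subgroup ↥G₁) : Set ↥G₁) := by
      rintro y (rfl | ⟨t, rfl⟩)
      · exact FlF_mono (by decide) (FlF_mono (by decide) (FlF_mono (by decide) (FlF_mono (by decide)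
          (eF_mem Z hq hK 0 1))))
      · exact orb_mem Z hq hK h2 t
    have hx' := Q_gen Z hq hK h2 hx
    induction hx' using Subgroup.closure_induction with
    | mem y hy =>
      rcases hy with rfl | ⟨t, rfl⟩
      · exact mul_mem (eF_mem Z hq hK 0 1) (eF_mem Z hq hK 0 1)
      · have e : y14 Z hq hK t * y14 Z hq hK t = 1 := by
          have h1 : eF Z hq hK 4 1 * eF Z hq hK 4 1 = 1 := by
            rw [← eF_add Z hq hK 4 (one_Vf hq hK h2 4) (one_Vf hq hK h2 4), one_add_one_eq_two,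
              two_eq hq hK h2, eF_zero Z hq hK]
          rw [y14]
          calc eF Z hq hK 5 t * eF Z hq hK 4 1 * (eF Z hq hK 5 t)⁻¹ *
                (eF Z hq hK 5 t * eF Z hq hK 4 1 * (eF Z hq hK 5 t)⁻¹)
              = eF Z hq hK 5 t * (eF Z hq hK 4 1 * eF Z hq hK 4 1) * (eF Z hq hK 5 t)⁻¹ := by group
            _ = 1 := by rw [h1]; group
        rw [e]; exact one_mem _
    | one => simp
    | mul a b ha hb iha ihb =>
      have ha' : a ∈ (FlF 5 : Subgroup ↥G₁) := (Subgroup.closure_le _).2 hO ha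
      have hb' : b ∈ (FlF 5 : Subgroup ↥G₁) := (Subgroup.closure_le _).2 hO hb
      have h1 := hQ1 a⁻¹ (inv_mem ha') b hb'
      have e : a * b * (a * b) = a * a * (⁅a⁻¹, b⁆ * (b * b)) := by
        simp only [commutatorElement_def]; group
      rw [e]
      exact mul_mem (iha ha') (mul_mem h1 (ihb hb'))
    | inv a ha iha =>
      have ha' : a ∈ (FlF 5 : Subgroup ↥G₁) := (Subgroup.closure_le _).2 hO ha
      simpa using inv_mem (iha ha')
  have hsq : ∀ x ∈ (FlF 5 : Subgroup ↥G₁), ∀ w : Γ, σ w = x →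
      ∃ a ∈ σ.ker, ∃ n ∈ N, w * w = a * a * n := by
    let W2 : Subgroup ↥G₁ :=
      { carrier := {x | x ∈ (FlF 5 : Subgroup ↥G₁) ∧ ∀ w : Γ, σ w = x →
            ∃ a ∈ σ.ker, ∃ n ∈ N, w * w = a * a * n}
        one_mem' := ⟨one_mem _, fun w hw => ⟨w, hw, 1, one_mem _, (mul_one _).symm⟩⟩
        mul_mem' := by
          rintro x x' ⟨hx, ihx⟩ ⟨hx', ihx'⟩
          refine ⟨mul_mem hx hx', fun w hw => ?_⟩
          obtain ⟨v, rfl⟩ := hσ x
          obtain ⟨v', rfl⟩ := hσ x'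
          obtain ⟨d, hd, rfl⟩ := hsame (v * v') w (by rw [hw, map_mul])
          obtain ⟨a, ha, n, hn, ea⟩ := ihx v rfl
          obtain ⟨b, hb, n', hn', eb⟩ := ihx' v' rfl
          have hm := hQQ v⁻¹ v' (by rw [map_inv]; exact inv_mem hx) hx'
          refine ⟨a * b * d, mul_mem (mul_mem ha hb) hd, n * ⁅v⁻¹, v'⁆ * n', mul_mem (mul_mem hn hm) hn', ?_⟩
          have cd := fun y => (hkc d hd y).eq
          have cb := fun y => (hkc b hb y).eq
          calc v * v' * d * (v * v' * d) = v * v' * (d * (v * v')) * d := by group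
            _ = v * v * (⁅v⁻¹, v'⁆ * (v' * v')) * (d * d) := by
              rw [← cd]; simp only [commutatorElement_def]; group
            _ = a * a * n * ⁅v⁻¹, v'⁆ * (b * b) * n' * (d * d) := by rw [ea, eb]; group
            _ = a * a * (n * ⁅v⁻¹, v'⁆ * (b * b)) * (n' * (d * d)) := by group
            _ = a * a * ((b * b) * (n * ⁅v⁻¹, v'⁆)) * ((d * d) * n') := by
              rw [(hkc _ (mul_mem hb hb) (n * ⁅v⁻¹, v'⁆)).eq, (hkc _ (mul_mem hd hd) n').eq]
            _ = a * a * (b * b) * ((n * ⁅v⁻¹, v'⁆) * (d * d)) * n' := by group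
            _ = a * a * (b * b) * ((d * d) * (n * ⁅v⁻¹, v'⁆)) * n' := by
              rw [(hkc _ (mul_mem hd hd) (n * ⁅v⁻¹, v'⁆)).eq]
            _ = (a * (a * b)) * b * d * d * (n * ⁅v⁻¹, v'⁆ * n') := by group
            _ = (a * (b * a)) * b * d * d * (n * ⁅v⁻¹, v'⁆ * n') := by rw [cb a]
            _ = a * b * (a * b * d) * d * (n * ⁅v⁻¹, v'⁆ * n') := by group
            _ = a * b * (d * (a * b)) * d * (n * ⁅v⁻¹, v'⁆ * n') := by rw [cd (a * b)]
            _ = _ := by group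
        inv_mem' := by
          rintro x ⟨hx, ihx⟩
          refine ⟨inv_mem hx, fun w hw => ?_⟩
          obtain ⟨a, ha, n, hn, ea⟩ := ihx w⁻¹ (by rw [map_inv, hw, inv_inv])
          refine ⟨a⁻¹, inv_mem ha, n⁻¹, inv_mem hn, ?_⟩
          have h1 := congrArg (·⁻¹) ea
          simp only [_root_.mul_inv_rev, inv_inv] at h1
          rw [h1, ← (hkc _ (mul_mem (inv_mem ha) (inv_mem ha)) n⁻¹).eq] }
    have hle : (FlF 5 : Subgroup ↥G₁) ≤ W2 := by
      refine (Q_le_comm Z hq hK h2).trans ?_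
      rw [Subgroup.commutator_le]
      intro p hp y hy
      refine ⟨by rw [commutatorElement_def]; exact mul_mem (Pa_normal Z hq hK h2 hp hy) (inv_mem hy),
        fun w hw => ?_⟩
      obtain ⟨p, rfl⟩ := hσ p
      obtain ⟨y, rfl⟩ := hσ y
      obtain ⟨d, hd, rfl⟩ := hsame ⁅p, y⁆ w (by rw [hw, map_commutatorElement])
      have hm := hQQ (p * y * p⁻¹)⁻¹ y⁻¹ (by
        rw [map_inv, map_mul, map_mul, map_inv]; exact inv_mem (Pa_normal Z hq hK h2 hp hy)) (by
        rw [map_inv]; exact inv_mem hy)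
      refine ⟨d, hd, ⁅(p * y * p⁻¹)⁻¹, y⁻¹⁆, hm, ?_⟩
      have hy2 : Commute (y * y) p := hcen _ _ (by rw [map_mul]; exact hsqQ _ hy) hp
      have hyn : Commute ⁅(p * y * p⁻¹)⁻¹, y⁻¹⁆ (y * y) :=
        hNP _ (by rw [map_mul]; exact mul_mem (hQP hy) (hQP hy)) _ hm
      calc ⁅p, y⁆ * d * (⁅p, y⁆ * d) = ⁅p, y⁆ * (d * ⁅p, y⁆) * d := by group
        _ = ⁅p, y⁆ * ⁅p, y⁆ * (d * d) := by rw [← (hkc d hd ⁅p, y⁆).eq]; group
        _ = p * (y * y) * p⁻¹ * ⁅(p * y * p⁻¹)⁻¹, y⁻¹⁆ * (y * y)⁻¹ * (d * d) := by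
          simp only [commutatorElement_def]; group
        _ = ⁅(p * y * p⁻¹)⁻¹, y⁻¹⁆ * (d * d) := by
          rw [← hy2.eq, mul_inv_cancel_right, ← hyn.eq, mul_inv_cancel_right]
        _ = d * d * ⁅(p * y * p⁻¹)⁻¹, y⁻¹⁆ := (hkc _ (mul_mem hd hd) _).eq
    exact fun x hx => (hle hx).2
  obtain ⟨a, ha, n, hn, ea⟩ := hsq _ (eF_mem Z hq hK 4 1) y0 hy0
  have hn1 : n = 1 := by
    refine hNk n hn ?_
    have := congrArg σ ea
    rwa [map_mul σ (a * a), map_mul σ a, show σ a = 1 from ha, one_mul, one_mul,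
      show σ (y0 * y0) = 1 from hy0sq, eq_comm] at this
  rw [hn1, mul_one] at ea
  -- the complement
  set y1 := y0 * a⁻¹
  have hy1 : y1 * y1 = 1 := by
    calc y0 * a⁻¹ * (y0 * a⁻¹) = y0 * (a⁻¹ * y0) * a⁻¹ := by group
      _ = y0 * (y0 * a⁻¹) * a⁻¹ := by rw [(hkc a⁻¹ (inv_mem ha) y0).eq]
      _ = y0 * y0 * (a⁻¹ * a⁻¹) := by group
      _ = 1 := by rw [ea]; group
  let Y : F → Γ := fun t => g t * y1 * (g t)⁻¹
  have hY : ∀ t, σ (Y t) = y14 Z hq hK t := fun t => by
    rw [← hyt]; simp [Y, yt, y1, show σ a = 1 from ha]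
  let l := (Finset.univ : Finset F).toList.map Y
  let Ct := Subgroup.closure {x | x ∈ c :: l}
  have hmemY : ∀ t, Y t ∈ Ct := fun t =>
    Subgroup.subset_closure (List.mem_cons_of_mem _ (List.mem_map.2 ⟨t, by simp, rfl⟩))
  have hcCt : c ∈ Ct := Subgroup.subset_closure (List.mem_cons_self ..)
  have hCtP : ∀ x ∈ Ct, σ x ∈ (FlF 5 : Subgroup ↥G₁) := by
    intro x hx
    have : Ct ≤ (FlF 5 : Subgroup ↥G₁).comap σ := (Subgroup.closure_le _).2 (by
      intro x hx
      simp only [Set.mem_ofPred_eq, List.mem_cons, l, List.mem_map] at hx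
      rcases hx with rfl | ⟨t, -, rfl⟩
      · rw [SetLike.mem_coe, Subgroup.mem_comap]
        rw [hσce]
        exact FlF_mono (by decide) (FlF_mono (by decide) (FlF_mono (by decide) (FlF_mono (by decide)
          (eF_mem Z hq hK 0 1))))
      · rw [SetLike.mem_coe, Subgroup.mem_comap]
        rw [hY]; exact orb_mem Z hq hK h2 t)
    exact this hx
  have hcard : Nat.card ↥Ct ≤ 512 := by
    have hl : l.length = 8 := by
      simp [l, hK, h2]
    refine (finite_list_closure hcsq l (fun x hx => ?_) ?_).trans (by rw [hl]; norm_num)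
    · obtain ⟨t, -, rfl⟩ := List.mem_map.1 hx
      calc g t * y1 * (g t)⁻¹ * (g t * y1 * (g t)⁻¹) = g t * (y1 * y1) * (g t)⁻¹ := by group
        _ = 1 := by rw [hy1]; group
    · intro x hx y hy
      exact hQQ x y (hCtP x (Subgroup.subset_closure hx)) (hCtP y (Subgroup.subset_closure hy))
  have hinjC : ∀ x ∈ Ct, σ x = 1 → x = 1 := by
    let f : ↥Ct → ↥(FlF 5 : Subgroup ↥G₁) := fun x => ⟨σ x.1, hCtP x.1 x.2⟩
    have hs : Function.Surjective f := by
      rintro ⟨x, hx⟩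
      have h1 : Subgroup.closure (insert e0 (Set.range (y14 Z hq hK))) ≤ Ct.map σ :=
        (Subgroup.closure_le _).2 (by
          rintro y (rfl | ⟨t, rfl⟩)
          · exact ⟨c, hcCt, hσce⟩
          · exact ⟨Y t, hmemY t, hY t⟩)
      obtain ⟨v, hv, e⟩ := h1 (Q_gen Z hq hK h2 hx)
      exact ⟨⟨v, hv⟩, Subtype.ext e⟩
    have hbij : Function.Bijective f := (Nat.bijective_iff_surjective_and_card f).2
      ⟨hs, le_antisymm (hcard.trans (card_Q Z hq hK h2)) (Nat.card_le_card_of_surjective f hs)⟩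
    intro x hx h1
    exact congrArg Subtype.val (@hbij.1 ⟨x, hx⟩ ⟨1, one_mem Ct⟩ (Subtype.ext (by
      show σ x = σ 1; rw [h1, map_one])))
  -- the lifts of the root group commute
  let _ : CommGroup σ.ker := { mul_comm := fun x y => Subtype.ext ((hkc _ y.2 x).eq) }
  have hgg : ∀ s t, ⁅g s, g t⁆ = 1 := by
    have hmem : ∀ s t, ⁅g s, g t⁆ ∈ σ.ker := fun s t => by
      rw [MonoidHom.mem_ker, map_commutatorElement, hg, hg, commutatorElement_eq_one_iff_mul_comm,
        eF5_mul Z hq hK h2, eF5_mul Z hq hK h2, add_comm]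
    have hleft : ∀ s s' t, ⁅g (s + s'), g t⁆ = ⁅g s, g t⁆ * ⁅g s', g t⁆ := by
      intro s s' t
      rw [hwd (v := g s * g s') (w := g t) (by rw [map_mul, hg, hg, hg, eF5_mul Z hq hK h2]) rfl,
        show ⁅g s * g s', g t⁆ = g s * ⁅g s', g t⁆ * (g s)⁻¹ * ⁅g s, g t⁆ by
          simp only [commutatorElement_def]; group]
      rw [(hkc _ (hmem s' t) (g s)).eq, mul_inv_cancel_right]
      exact ((hkc _ (hmem s' t) _).eq).symm
    have hright : ∀ s t t', ⁅g s, g (t + t')⁆ = ⁅g s, g t⁆ * ⁅g s, g t'⁆ := by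
      intro s t t'
      rw [← _root_.inv_inj, commutatorElement_inv, hleft, _root_.mul_inv_rev, commutatorElement_inv,
        commutatorElement_inv]
      exact (hkc _ (hmem t' s) _).eq
    let B : F →+ F →+ Additive σ.ker := AddMonoidHom.mk'
      (fun s => AddMonoidHom.mk' (fun t => Additive.ofMul ⟨⁅g s, g t⁆, hmem s t⟩) fun t t' => by
        rw [← ofMul_mul]; exact congrArg _ (Subtype.ext (hright s t t')))
      fun s s' => by
        refine AddMonoidHom.ext fun t => ?_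
        show Additive.ofMul (⟨⁅g (s + s'), g t⁆, hmem _ _⟩ : σ.ker) =
          Additive.ofMul ⟨⁅g s, g t⁆, hmem _ _⟩ + Additive.ofMul ⟨⁅g s', g t⁆, hmem _ _⟩
        rw [← ofMul_mul]; exact congrArg _ (Subtype.ext (hleft s s' t))
    intro s t
    have h5 : 5 ≤ Nat.card F := by rw [Nat.card_eq_fintype_card, hK, h2]; norm_num
    have h0 := Pairing.zero_of_scalars h5 B (fun x hx v w => by
      obtain ⟨p, hp⟩ := wgt_onto hq hK (i := 5) (by simp [small]) (Units.mk0 x hx)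
      obtain ⟨h, hh⟩ := hσ (hT Z hq hK p)
      have hm : ∀ y : F, y ∈ Vf hq hK 5 := mem_Vf_big hq hK (by simp [small])
      have key : ∀ y, σ (h * g y * h⁻¹) = σ (g (x * y)) := fun y => by
        rw [map_mul, map_mul, map_inv, hh, hg, hg, hT_conj Z hq hK 5 p (hm y) (hm _), hp, Units.val_mk0]
      show Additive.ofMul _ = Additive.ofMul _
      refine congrArg _ (Subtype.ext ?_)
      show ⁅g (x * v), g (x * w)⁆ = ⁅g v, g w⁆
      rw [hwd (key v) (key w), show ⁅h * g v * h⁻¹, h * g w * h⁻¹⁆ = h * ⁅g v, g w⁆ * h⁻¹ by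
        simp only [commutatorElement_def]; group]
      rw [(hkc _ (hmem v w) h).eq, mul_inv_cancel_right]) s t
    exact congrArg Subtype.val (congrArg Additive.toMul h0)
  -- conclusion
  have hgC : ∀ s, ∀ x ∈ Ct, g s * x * (g s)⁻¹ ∈ Ct := by
    intro s x hx
    induction hx using Subgroup.closure_induction with
    | mem x hx =>
      simp only [Set.mem_ofPred_eq, List.mem_cons, l, List.mem_map] at hx
      rcases hx with rfl | ⟨t, -, rfl⟩
      · rw [← (hcP (g s) (hgPa s)).eq, mul_inv_cancel_right]; exact hcCt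
      · rw [hyconj y1 s t]; exact hmemY _
    | one => simp
    | mul a b _ _ ha hb => simpa [mul_assoc] using mul_mem ha hb
    | inv a _ ha => simpa [mul_assoc] using inv_mem ha
  let S' : Set Γ := (σ.ker : Set Γ) ∪ (Ct : Set Γ) ∪ Set.range g
  have hUS : (UF : Subgroup ↥G₁).comap σ ≤ Subgroup.closure S' := by
    intro w hw
    obtain ⟨t, -, hr⟩ := FlF_dec Z hq hK 5 (g := σ w) hw
    have h1 : Subgroup.closure (insert e0 (Set.range (y14 Z hq hK))) ≤ Ct.map σ :=
      (Subgroup.closure_le _).2 (by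
        rintro y (rfl | ⟨t, rfl⟩)
        · exact ⟨c, hcCt, hσce⟩
        · exact ⟨Y t, hmemY t, hY t⟩)
    obtain ⟨v, hv, e⟩ := h1 (Q_gen Z hq hK h2 hr)
    obtain ⟨d, hd, rfl⟩ := hsame (g t * v) w (by rw [map_mul, hg, e, mul_inv_cancel_left])
    exact mul_mem (mul_mem (Subgroup.subset_closure (Or.inr ⟨t, rfl⟩))
      (Subgroup.subset_closure (Or.inl (Or.inr hv)))) (Subgroup.subset_closure (Or.inl (Or.inl hd)))
  have hnorm : ∀ x ∈ Subgroup.closure S', ∀ n ∈ Ct, x * n * x⁻¹ ∈ Ct := by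
    intro x hx
    induction hx using Subgroup.closure_induction'' with
    | mem x hx =>
      intro n hn
      rcases hx with (hx | hx) | ⟨s, rfl⟩
      · rw [← (hkc x hx n).eq, mul_inv_cancel_right]; exact hn
      · exact mul_mem (mul_mem hx hn) (inv_mem hx)
      · exact hgC s n hn
    | inv_mem x hx =>
      intro n hn
      rw [inv_inv]
      rcases hx with (hx | hx) | ⟨s, rfl⟩
      · rw [(hkc x⁻¹ (inv_mem hx) n).eq.symm, inv_mul_cancel_right]; exact hn
      · exact mul_mem (mul_mem (inv_mem hx) hn) hx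
      · have h1 : (g s)⁻¹ = g (-s) * (g s * g (-s))⁻¹ := by group
        obtain ⟨d, hd, e⟩ := hsame (g 0) (g s * g (-s)) (by
          rw [map_mul, hg, hg, hg, eF5_mul Z hq hK h2, add_neg_cancel])
        have h0 : g 0 ∈ σ.ker := by rw [MonoidHom.mem_ker, hg, eF_zero Z hq hK]
        have hk : (g s * g (-s))⁻¹ ∈ σ.ker := by rw [e]; exact inv_mem (mul_mem h0 hd)
        have := hgC (-s) n hn
        have h2' : (g s)⁻¹ * n * g s = g (-s) * ((g s * g (-s))⁻¹ * n) * (g s * g (-s)) * (g (-s))⁻¹ := by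
          group
        rw [h2', ← (hkc _ hk n).eq, show g (-s) * (n * (g s * g (-s))⁻¹) * (g s * g (-s)) * (g (-s))⁻¹ =
          g (-s) * n * (g (-s))⁻¹ by group]
        exact this
    | one => simp
    | mul a b _ _ ha hb =>
      intro n hn
      have := ha _ (hb _ hn)
      simpa [mul_assoc] using this
  have hder : ⁅(UF : Subgroup ↥G₁).comap σ, (UF : Subgroup ↥G₁).comap σ⁆ ≤ Ct := by
    rw [Subgroup.commutator_le]
    intro x hx y hy
    refine closure_comm (S := S') hnorm ?_ x (hUS hx) y (hUS hy)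
    have hk1 : ∀ a ∈ σ.ker, ∀ b : Γ, ⁅a, b⁆ = 1 ∧ ⁅b, a⁆ = 1 := fun a ha b =>
      ⟨commutatorElement_eq_one_iff_mul_comm.2 (hkc a ha b).eq.symm,
        commutatorElement_eq_one_iff_mul_comm.2 (hkc a ha b).eq⟩
    have hCx : ∀ a ∈ Ct, ∀ b ∈ S', ⁅a, b⁆ ∈ Ct ∧ ⁅b, a⁆ ∈ Ct := fun a ha b hb => by
      have h1 := hnorm b (Subgroup.subset_closure hb) a ha
      have h2' := hnorm b (Subgroup.subset_closure hb) a⁻¹ (inv_mem ha)
      constructor
      · rw [show ⁅a, b⁆ = a * (b * a⁻¹ * b⁻¹) by simp only [commutatorElement_def]; group]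
        exact mul_mem ha h2'
      · rw [commutatorElement_def]; exact mul_mem h1 (inv_mem ha)
    rintro a ((ha | ha) | ⟨s, rfl⟩) b hb
    · rw [(hk1 a ha b).1]; exact one_mem _
    · exact (hCx a ha b hb).1
    · rcases hb with (hb | hb) | ⟨t, rfl⟩
      · rw [(hk1 b hb _).2]; exact one_mem _
      · exact (hCx b hb (g s) (Or.inr ⟨s, rfl⟩)).2
      · rw [hgg s t]; exact one_mem _
  exact (Subgroup.eq_bot_iff_forall _).2 fun x hx => hinjC x (hder hx.2) hx.1

end Cfsg.Agent.Twisted.TypeD4
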