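import Cfsg.Agent.KnownSimple.Multiplier.D4.Coord
import Cfsg.Agent.KnownSimple.Multiplier.Series

/-!
The torus of `³D₄(q)` in the parameters given by the two fundamental weights, and the series data of the
unipotent subgroup (helper53).
-/

set_option autoImplicit false
set_option linter.unusedSectionVars false

namespace Cfsg.Agent.Twisted.TypeD4

open ChevGroup ChevIsogeny Cfsg.Lie
open scoped commutatorElement

variable (F : Type*) [Field F] [Fintype F]

/-- the parameters of the torus -/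
abbrev TPar (q : ℕ) : Type _ := Fˣ × {v : Fˣ // v ^ q = v}

variable {F} {q : ℕ}

/-- the values of the fundamental weights at a parameter vector -/
def wmap (q : ℕ) (p : TPar F q) : Fˣ × Fˣ :=
  (p.1 ^ 2 / p.2.1, p.2.1 ^ 2 / (p.1 * p.1 ^ q * p.1 ^ (q ^ 2)))

/-- the weight of a factor in the two fundamental values -/
def wgt (q : ℕ) (i : Fin 6) (u v : Fˣ) : Fˣ :=
  ([u * u ^ q * u ^ (q ^ 2) * v ^ 2, u * u ^ q * u ^ (q ^ 2) * v, u * u ^ q * v, u * v, v, u] :
    List Fˣ).getD i.val 1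

variable (hq : IsPrimePow q) (hK : Fintype.card F = q ^ 3)
include hq hK

theorem unit_per (a : Fˣ) : (a ^ (q ^ 2)) ^ q = a :=
  Units.ext (by simpa using per3 hq hK (a : F))

theorem norm_fixed (a : Fˣ) :
    (a * a ^ q * a ^ (q ^ 2)) ^ q = a * a ^ q * a ^ (q ^ 2) := by
  rw [mul_pow, mul_pow, unit_per hq hK, ← pow_mul, ← pow_two, mul_comm (a ^ q * a ^ (q ^ 2)) a,
    mul_assoc]

theorem wmap_fixed (p : TPar F q) : (wmap q p).2 ^ q = (wmap q p).2 := by
  show (_ / _) ^ q = _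
  rw [div_pow, norm_fixed hq hK, ← pow_mul, mul_comm 2 q, pow_mul, p.2.2]
  rfl

theorem wmap_bij : Function.Bijective fun p : TPar F q =>
    ((⟨(wmap q p).1, ⟨(wmap q p).2, wmap_fixed hq hK p⟩⟩) : TPar F q) := by
  refine Finite.injective_iff_bijective.1 ?_
  rintro ⟨a, b, hb⟩ ⟨a', b', hb'⟩ h
  simp only [Prod.mk.injEq, Subtype.mk.injEq, wmap] at h
  obtain ⟨h1, h2⟩ := h
  set c := a / a' with hc
  set d := b / b' with hd
  have hd1 : c ^ 2 = d := by
    rw [hc, hd, div_pow, div_eq_div_iff_mul_eq_mul]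
    rw [div_eq_div_iff_mul_eq_mul] at h1
    rw [h1, mul_comm]
  have hd2 : d ^ 2 = c * c ^ q * c ^ (q ^ 2) := by
    rw [hc, hd, div_pow, div_pow, div_pow, div_mul_div_comm, div_mul_div_comm,
      div_eq_div_iff_mul_eq_mul]
    rw [div_eq_div_iff_mul_eq_mul] at h2
    rw [h2, mul_comm]
  have hdq : d ^ q = d := by rw [hd, div_pow, hb, hb']
  have hcq : c ^ q = c := by
    have hcc : (c ^ q) ^ 2 = c ^ 2 := by rw [← pow_mul, mul_comm, pow_mul, hd1, hdq]
    have h4 : ((c ^ q : Fˣ) : F) = c ∨ ((c ^ q : Fˣ) : F) = -c :=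
      sq_eq_sq_iff_eq_or_eq_neg.1 (by exact_mod_cast congrArg Units.val hcc)
    rcases h4 with e | e
    · exact Units.ext e
    · have e3 := per3 hq hK (c : F)
      have n := qpow_neg hq hK
      rw [Units.val_pow_eq_pow_val] at e
      rw [pow_two, pow_mul, e, n, e, neg_neg, e] at e3
      exact Units.ext (by rw [Units.val_pow_eq_pow_val, e, e3])
  have hc1 : c = 1 := by
    rw [← hd1, hcq, pow_two q, pow_mul, hcq, hcq, ← pow_mul] at hd2
    have : c ^ 3 * c = c ^ 3 * 1 := by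
      rw [mul_one, ← pow_succ, hd2, pow_succ, pow_two]
    exact mul_left_cancel this
  rw [hc1, one_pow] at hd1
  rw [hc, div_eq_one] at hc1
  rw [hd, eq_comm, div_eq_one] at hd1
  subst hc1 hd1
  rfl

omit hq hK

variable {K : Rels chevD4 F} (Z : Frame (T := MT) K PP q fd)

include Z in
theorem chi_fac (i : Fin 6) (r : Fin MT.tab.n) (hr : r ∈ fac i) (a b : Fˣ)
    (hq : IsPrimePow q) (hK : Fintype.card F = q ^ 3) (hb : b ^ q = b) (t : F) :
    (chi MT (cvec q a b) r : F) * co q t r =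
      co q ((wgt q i (wmap q ⟨a, b, hb⟩).1 (wmap q ⟨a, b, hb⟩).2 : F) * t) r := by
  obtain ⟨v18, v14, v13, v12⟩ := chi_val (F := F) (cvec q a b)
  obtain ⟨e0, e1, e2, e3⟩ := cvec_val q a b
  set u := (wmap q ⟨a, b, hb⟩).1 with hu
  set v := (wmap q ⟨a, b, hb⟩).2 with hv
  have hvq : v ^ q = v := wmap_fixed hq hK ⟨a, b, hb⟩
  have c18 : chi MT (cvec q a b) (18 : Fin MT.tab.n) = u := by
    rw [v18, e0, e1, hu, wmap, zpow_neg_one, zpow_ofNat, div_eq_mul_inv]
  have c14 : chi MT (cvec q a b) (14 : Fin MT.tab.n) = v := by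
    rw [v14, e0, e1, e2, e3, hv, wmap]
    simp only [zpow_neg_one, zpow_ofNat, div_eq_mul_inv, mul_inv]
    ac_rfl
  have c13 : chi MT (cvec q a b) (13 : Fin MT.tab.n) = u ^ q := by
    rw [v13, e1, e2, hu, wmap, div_pow, hb, zpow_neg_one, zpow_ofNat, div_eq_mul_inv, ← pow_mul,
      ← pow_mul, mul_comm q 2, mul_comm b⁻¹]
  have c12 : chi MT (cvec q a b) (12 : Fin MT.tab.n) = u ^ (q ^ 2) := by
    rw [v12, e1, e3, hu, wmap, div_pow, pow_two q, pow_mul b, hb, hb, zpow_neg_one, zpow_ofNat,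
      div_eq_mul_inv, ← pow_two q, ← pow_mul, ← pow_mul, mul_comm (q ^ 2) 2, mul_comm b⁻¹]
  have hchi : ∀ (r : Fin MT.tab.n) (k0 k1 k2 k3 : ℤ),
      (List.finRange MT.tab.l).map (fd.O.vec r) = [k0, k1, k2, k3] →
      chi MT (cvec q a b) r = u ^ k0 * v ^ k1 * (u ^ q) ^ k2 * (u ^ (q ^ 2)) ^ k3 := by
    intro r k0 k1 k2 k3 h
    rw [Z.chi_eq torOk]
    show ∏ j : Fin 4, chi MT (cvec q a b) ((MT.S).simple j) ^ fd.O.vec r j = _
    rw [Fin.prod_univ_four]
    have hl : (List.finRange MT.tab.l).map (fd.O.vec r) =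
        [fd.O.vec r 0, fd.O.vec r 1, fd.O.vec r 2, fd.O.vec r 3] := rfl
    rw [hl] at h
    simp only [List.cons.injEq, and_true] at h
    obtain ⟨h0, h1, h2, h3⟩ := h
    show chi MT (cvec q a b) (18 : Fin MT.tab.n) ^ _ * chi MT (cvec q a b) (14 : Fin MT.tab.n) ^ _ *
        chi MT (cvec q a b) (13 : Fin MT.tab.n) ^ _ * chi MT (cvec q a b) (12 : Fin MT.tab.n) ^ _ = _
    rw [c18, c14, c13, c12]
    exact congrArg₂ _ (congrArg₂ _ (congrArg₂ _ (congrArg _ h0) (congrArg _ h1)) (congrArg _ h2))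
      (congrArg _ h3)
  have p := per3 hq hK (u : F)
  have hvF : (v : F) ^ q = v := by rw [← Units.val_pow_eq_pow_val, hvq]
  have hvF2 : (v : F) ^ (q ^ 2) = v := by rw [pow_two, pow_mul, hvF, hvF]
  have sq : ((u : F) ^ q) ^ q = (u : F) ^ (q ^ 2) := by rw [← pow_mul, pow_two]
  have p2 : ((u : F) ^ q) ^ (q ^ 2) = u := by
    rw [← pow_mul, mul_comm, pow_mul]; exact p
  match i with
  | 0 => obtain rfl : r = 23 := List.mem_singleton.1 hr; rw [hchi 23 1 2 1 1 (by decide +kernel)]; simp [co, wgt]; (try left); ring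
  | 1 => obtain rfl : r = 22 := List.mem_singleton.1 hr; rw [hchi 22 1 1 1 1 (by decide +kernel)]; simp [co, wgt]; (try left); ring
  | 4 => obtain rfl : r = 14 := List.mem_singleton.1 hr; rw [hchi 14 0 1 0 0 (by decide +kernel)]; simp [co, wgt]
  | 2 =>
    obtain rfl | rfl | rfl : r = 17 ∨ r = 20 ∨ r = 21 := mem_three hr
    · rw [hchi 17 0 1 1 1 (by decide +kernel)]; simp [co, wgt, mul_pow, hvF, hvF2, sq, p2]; (try left); (try ring)
    · rw [hchi 20 1 1 0 1 (by decide +kernel)]; simp [co, wgt, mul_pow, hvF, hvF2, sq, p2]; (try left); (try ring)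
    · rw [hchi 21 1 1 1 0 (by decide +kernel)]; simp [co, wgt, mul_pow, hvF, hvF2, sq, p2]; (try left); (try ring)
  | 3 =>
    obtain rfl | rfl | rfl : r = 15 ∨ r = 16 ∨ r = 19 := mem_three hr
    · rw [hchi 15 0 1 0 1 (by decide +kernel)]; simp [co, wgt, mul_pow, hvF, hvF2] <;> (try left) <;> (try ring)
    · rw [hchi 16 0 1 1 0 (by decide +kernel)]; simp [co, wgt, mul_pow, hvF, hvF2] <;> (try left) <;> (try ring)
    · rw [hchi 19 1 1 0 0 (by decide +kernel)]; simp [co, wgt, mul_pow, hvF, hvF2] <;> (try left) <;> (try ring)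
  | 5 =>
    obtain rfl | rfl | rfl : r = 12 ∨ r = 13 ∨ r = 18 := mem_three hr
    · rw [hchi 12 0 0 0 1 (by decide +kernel)]; simp [co, wgt, mul_pow]
    · rw [hchi 13 0 0 1 0 (by decide +kernel)]; simp [co, wgt, mul_pow]
    · rw [hchi 18 1 0 0 0 (by decide +kernel)]; simp [co, wgt, mul_pow]

end Cfsg.Agent.Twisted.TypeD4
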